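import Mathlib
import Cfsg.Agent.Chev.AltTab

/-!
# Small subgroups of `E₇(2)` on the module of dimension `56`: definitions
-/

set_option autoImplicit false

namespace Cfsg.Agent.E7V

open Module Cfsg.Lie

/-- the space of dimension `56` -/
abbrev V56 : Type := Fin 56 → ZMod 2

/-- the group `E₇(2)` -/
abbrev G0 : Type := chevE7.group (ZMod 2)

variable {X Y : Type*} [Group X] [Group Y] {V : Type*} [AddCommGroup V] [Module (ZMod 2) V]

/-- the vectors fixed by a set of elements -/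
def Fx (ρ : X →* End (ZMod 2) V) (S : Set X) : Submodule (ZMod 2) V where
  carrier := {v | ∀ g ∈ S, ρ g v = v}
  add_mem' ha hb g hg := by rw [map_add, ha g hg, hb g hg]
  zero_mem' g _ := map_zero _
  smul_mem' c v hv g hg := by rw [map_smul, hv g hg]

/-- dimension of the fixed space -/
noncomputable def fx (ρ : X →* End (ZMod 2) V) (S : Set X) : ℕ := finrank (ZMod 2) (Fx ρ S)

/-- dimension of the fixed space in `W` -/
noncomputable def fw (ρ : X →* End (ZMod 2) V) (W : Submodule (ZMod 2) V) (S : Set X) : ℕ :=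
  finrank (ZMod 2) (W ⊓ Fx ρ S : Submodule (ZMod 2) V)

/-- `W` is invariant under `g` -/
def Inv (ρ : X →* End (ZMod 2) V) (W : Submodule (ZMod 2) V) (g : X) : Prop := ∀ v ∈ W, ρ g v ∈ W

/-- a nonzero fixed vector -/
def Fix (ρ : X →* End (ZMod 2) V) : Prop := ∃ v : V, v ≠ 0 ∧ ∀ g, ρ g v = v

/-- a nonzero fixed linear form -/
def CoFix (ρ : X →* End (ZMod 2) V) : Prop :=
  ∃ f : V →ₗ[ZMod 2] ZMod 2, f ≠ 0 ∧ ∀ g v, f (ρ g v) = f v

/-- what is known about elements of odd order of `E₇(2)` on the module of dimension `56` -/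
structure Tab (ρ : X →* End (ZMod 2) V56) : Prop where
  inj : Function.Injective ρ
  t3 : ∀ g, orderOf g = 3 → fx ρ {g} ∈ [2, 14, 20, 32]
  t5 : ∀ g, orderOf g = 5 → fx ρ {g} = 16
  t13 : ∀ g, orderOf g = 13 → fx ρ {g} = 8
  t9 : ∀ g, orderOf g = 9 → (fx ρ {g}, fx ρ {g ^ 3}) ∈
    [(4, 14), (12, 32), (0, 2), (0, 20), (6, 20), (8, 20), (12, 20)]
  t15 : ∀ z x, orderOf z = 3 → orderOf x = 5 → Commute z x → (fx ρ {z}, fx ρ {z, x}) ∈
    [(32, 8), (20, 4), (2, 2), (32, 0), (14, 6), (20, 12)]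

/-- `X` has no representation with the table -/
def NoEmb (X : Type*) [Group X] : Prop := ∀ ρ : X →* End (ZMod 2) V56, ¬ Tab ρ

/-- every representation of `X` with the table has a fixed vector or a fixed form -/
def HasFix (X : Type*) [Group X] : Prop := ∀ ρ : X →* End (ZMod 2) V56, Tab ρ → Fix ρ ∨ CoFix ρ

theorem mem_Fx {ρ : X →* End (ZMod 2) V} {S : Set X} {v : V} : v ∈ Fx ρ S ↔ ∀ g ∈ S, ρ g v = v := Iff.rfl

theorem mem_Fx_one {ρ : X →* End (ZMod 2) V} {g : X} {v : V} : v ∈ Fx ρ {g} ↔ ρ g v = v := by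
  simp [mem_Fx]

theorem Fx_anti (ρ : X →* End (ZMod 2) V) {S T : Set X} (h : S ⊆ T) : Fx ρ T ≤ Fx ρ S :=
  fun _ hv g hg => hv g (h hg)

theorem Fx_union (ρ : X →* End (ZMod 2) V) (S T : Set X) : Fx ρ (S ∪ T) = Fx ρ S ⊓ Fx ρ T := by
  ext v
  simp only [mem_Fx, Submodule.mem_inf, Set.mem_union, or_imp, forall_and]

theorem Fx_insert (ρ : X →* End (ZMod 2) V) (g : X) (T : Set X) :
    Fx ρ (insert g T) = Fx ρ {g} ⊓ Fx ρ T := by rw [← Fx_union]; rfl

theorem Fx_closure (ρ : X →* End (ZMod 2) V) (S : Set X) : Fx ρ (Subgroup.closure S) = Fx ρ S := by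
  refine le_antisymm (Fx_anti ρ Subgroup.subset_closure) fun v hv g hg => ?_
  induction hg using Subgroup.closure_induction with
  | mem x hx => exact hv x hx
  | one => simp
  | mul x y _ _ hx hy => rw [map_mul, End.mul_apply, hy, hx]
  | inv x _ hx => rw [← hx, ← End.mul_apply, ← map_mul, inv_mul_cancel, map_one, End.one_apply, hx]

theorem Fx_comp (ρ : X →* End (ZMod 2) V) (f : Y →* X) (S : Set Y) : Fx (ρ.comp f) S = Fx ρ (f '' S) := by
  ext v
  simp [mem_Fx]

theorem fx_comp (ρ : X →* End (ZMod 2) V) (f : Y →* X) (S : Set Y) : fx (ρ.comp f) S = fx ρ (f '' S) := by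
  rw [fx, Fx_comp]; rfl

theorem fw_top (ρ : X →* End (ZMod 2) V) (S : Set X) : fw ρ ⊤ S = fx ρ S := by
  rw [fw, top_inf_eq]; rfl

theorem fw_Fx (ρ : X →* End (ZMod 2) V) (S T : Set X) : fw ρ (Fx ρ S) T = fx ρ (S ∪ T) := by
  rw [fw, ← Fx_union]; rfl

theorem inv_top (ρ : X →* End (ZMod 2) V) (g : X) : Inv ρ ⊤ g := fun _ _ => trivial

theorem inv_Fx (ρ : X →* End (ZMod 2) V) {S : Set X} {g : X}
    (h : ∀ s ∈ S, g⁻¹ * s * g ∈ Subgroup.closure S) : Inv ρ (Fx ρ S) g := fun v hv s hs => by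
  have := (Fx_closure ρ S).ge hv _ (h s hs)
  rw [← End.mul_apply, ← map_mul, show s * g = g * (g⁻¹ * s * g) by group, map_mul, End.mul_apply, this]

theorem map_Fx (ρ : X →* End (ZMod 2) V) (u : X) (S : Set X) :
    (Fx ρ S).map (ρ u) = Fx ρ ((fun s => u * s * u⁻¹) '' S) := by
  ext v
  constructor
  · rintro ⟨w, hw, rfl⟩ _ ⟨s, hs, rfl⟩
    rw [← End.mul_apply, ← map_mul, inv_mul_cancel_right, map_mul, End.mul_apply, hw s hs]
  · intro hv
    refine ⟨ρ u⁻¹ v, fun s hs => ?_, by rw [← End.mul_apply, ← map_mul, mul_inv_cancel, map_one]; rfl⟩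
    have := hv _ ⟨s, hs, rfl⟩
    conv_rhs => rw [← this]
    rw [← End.mul_apply, ← End.mul_apply, ← map_mul, ← map_mul]
    congr 2
    group

theorem fx_conj (ρ : X →* End (ZMod 2) V) (u : X) (S : Set X) :
    fx ρ ((fun s => u * s * u⁻¹) '' S) = fx ρ S := by
  rw [fx, ← map_Fx]
  refine (Submodule.equivMapOfInjective _ (fun a b h => ?_) _).finrank_eq.symm
  have := congrArg (ρ u⁻¹) h
  rwa [← End.mul_apply, ← End.mul_apply, ← map_mul, inv_mul_cancel, map_one] at this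

theorem fx_isConj (ρ : X →* End (ZMod 2) V) {a b : X} (h : IsConj a b) : fx ρ {a} = fx ρ {b} := by
  obtain ⟨u, rfl⟩ := isConj_iff.1 h
  rw [← fx_conj ρ u {a}, Set.image_singleton]

theorem Tab.comp {ρ : X →* End (ZMod 2) V56} (h : Tab ρ) {f : Y →* X} (hf : Function.Injective f) :
    Tab (ρ.comp f) where
  inj := h.inj.comp hf
  t3 g hg := by rw [fx_comp, Set.image_singleton]; exact h.t3 _ ((orderOf_injective f hf g).trans hg)
  t5 g hg := by rw [fx_comp, Set.image_singleton]; exact h.t5 _ ((orderOf_injective f hf g).trans hg)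
  t13 g hg := by rw [fx_comp, Set.image_singleton]; exact h.t13 _ ((orderOf_injective f hf g).trans hg)
  t9 g hg := by
    rw [fx_comp, fx_comp, Set.image_singleton, Set.image_singleton, map_pow]
    exact h.t9 _ ((orderOf_injective f hf g).trans hg)
  t15 z x hz hx hc := by
    rw [fx_comp, fx_comp, Set.image_singleton, Set.image_pair]
    exact h.t15 _ _ ((orderOf_injective f hf z).trans hz) ((orderOf_injective f hf x).trans hx) (hc.map f)

theorem NoEmb.of_inj (h : NoEmb Y) {f : Y →* X} (hf : Function.Injective f) : NoEmb X :=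
  fun _ hρ => h _ (hρ.comp hf)

theorem HasFix.congr (h : HasFix Y) (e : Y ≃* X) : HasFix X := fun ρ hρ => by
  rcases h _ (hρ.comp (f := e.toMonoidHom) e.injective) with ⟨v, h0, hv⟩ | ⟨f, h0, hf⟩
  · exact .inl ⟨v, h0, fun g => by simpa using hv (e.symm g)⟩
  · exact .inr ⟨f, h0, fun g v => by simpa using hf (e.symm g) v⟩

theorem finrank_V56 : finrank (ZMod 2) V56 = 56 := by simp

theorem stProj_bij : Function.Bijective (chevE7.stProj (ZMod 2)) := by
  refine ⟨(MonoidHom.ker_eq_bot_iff _).1 ?_, chevE7.stProj_surjective _⟩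
  rw [ChevalleyDatum.ker_stProj, ← Subgroup.card_eq_one,
    (Chev.cyclic_card_of_equiv (K := ZMod 2) (Chev.center_equiv_E7 _)).2]
  simp

/-- the matrix representation of degree `56` of `E₇(2)` -/
noncomputable def mat0 : G0 →* Matrix (Fin 56) (Fin 56) (ZMod 2) :=
  (Chev.Alc.rep56 (ZMod 2)).ρ.comp (MulEquiv.ofBijective _ stProj_bij).symm.toMonoidHom

/-- the representation of degree `56` of `E₇(2)` -/
noncomputable def rho0 : G0 →* End (ZMod 2) V56 := Matrix.toLinAlgEquiv'.toMonoidHom.comp mat0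

theorem mat0_stProj (x : chevE7.SteinbergGroup (ZMod 2)) :
    mat0 (chevE7.stProj (ZMod 2) x) = (Chev.Alc.rep56 (ZMod 2)).ρ x :=
  congrArg (Chev.Alc.rep56 (ZMod 2)).ρ ((MulEquiv.ofBijective _ stProj_bij).symm_apply_apply x)

theorem rho0_apply (g : G0) (v : V56) : rho0 g v = (mat0 g).mulVec v :=
  Matrix.toLinAlgEquiv'_apply (mat0 g) v

end Cfsg.Agent.E7V
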