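import Mathlib
import Cfsg.Agent.E7V.Defs
import Cfsg.Agent.FT.Wielandt

set_option autoImplicit false

namespace Cfsg.Agent.E7V

open Module Matrix Cfsg.Lie

variable {X : Type*} [Group X] {V : Type*} [AddCommGroup V] [Module (ZMod 2) V]

namespace Frob

open SemidirectProduct Subgroup

/-- the action on the multiplicative copy of the module -/
def act (ρ : X →* End (ZMod 2) V) : X →* MulAut (Multiplicative V) :=
  MonoidHom.mk' (fun g =>
    { toFun := fun v => .ofAdd (ρ g v.toAdd)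
      invFun := fun v => .ofAdd (ρ g⁻¹ v.toAdd)
      left_inv := fun v => by simp [← End.mul_apply, ← map_mul]
      right_inv := fun v => by simp [← End.mul_apply, ← map_mul]
      map_mul' := fun v w => by simp }) fun g h => by ext v; simp

/-- a subspace as a subgroup of the semidirect product -/
def M (ρ : X →* End (ZMod 2) V) (W : Submodule (ZMod 2) V) : Subgroup (Multiplicative V ⋊[act ρ] X) :=
  W.toAddSubgroup.toSubgroup.map inl

variable {ρ : X →* End (ZMod 2) V}

theorem mem_M {W : Submodule (ZMod 2) V} {x : Multiplicative V ⋊[act ρ] X} :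
    x ∈ M ρ W ↔ ∃ v ∈ W, inl (Multiplicative.ofAdd v) = x :=
  ⟨fun ⟨v, h, e⟩ => ⟨v.toAdd, h, e⟩, fun ⟨v, h, e⟩ => ⟨.ofAdd v, h, e⟩⟩

theorem conj_inl (g : X) (v : V) : (inr g * inl (Multiplicative.ofAdd v) * (inr g)⁻¹ : Multiplicative V ⋊[act ρ] X) =
    inl (Multiplicative.ofAdd (ρ g v)) := by
  rw [← map_inv]; exact (inl_aut g (Multiplicative.ofAdd v)).symm

theorem card_M [FiniteDimensional (ZMod 2) V] (W : Submodule (ZMod 2) V) :
    Nat.card (M ρ W) = 2 ^ finrank (ZMod 2) W := by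
  rw [M, card_map_of_injective inl_injective]
  exact (Module.natCard_eq_pow_finrank (K := ZMod 2) (V := W)).trans (by rw [Nat.card_zmod])

theorem M_inf (W : Submodule (ZMod 2) V) (S : Subgroup X) :
    M ρ W ⊓ centralizer (S.map (inr : X →* Multiplicative V ⋊[act ρ] X) : Set _) = M ρ (W ⊓ Fx ρ S) := by
  ext x
  simp only [mem_inf, mem_M, mem_centralizer_iff]
  constructor
  · rintro ⟨⟨v, hv, rfl⟩, h⟩
    refine ⟨v, ⟨hv, fun g hg => ?_⟩, rfl⟩
    have := mul_inv_eq_iff_eq_mul.2 (h _ ⟨g, hg, rfl⟩)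
    rw [conj_inl] at this
    exact Multiplicative.ofAdd.injective (inl_injective this)
  · rintro ⟨v, hv, rfl⟩
    refine ⟨⟨v, hv.1, rfl⟩, ?_⟩
    rintro _ ⟨g, hg, rfl⟩
    exact mul_inv_eq_iff_eq_mul.1 (by rw [conj_inl, hv.2 g hg])

end Frob

open SemidirectProduct Subgroup in
theorem frob [Finite X] [FiniteDimensional (ZMod 2) V] (ρ : X →* End (ZMod 2) V) {A : Subgroup X}
    (hA : Odd (Nat.card A)) (hab : ∀ a ∈ A, ∀ b ∈ A, a * b = b * a) {q : ℕ} (hq : q.Prime) (h2 : q ≠ 2) {u : X}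
    (hu : u ^ q = 1) (hn : ∀ a ∈ A, u * a * u⁻¹ ∈ A) (hf : ∀ a ∈ A, u * a * u⁻¹ = a → a = 1)
    {W : Submodule (ZMod 2) V} (hW : ∀ a ∈ A, Inv ρ W a) (hu' : Inv ρ W u) :
    q * fw ρ W {u} + fw ρ W A = finrank (ZMod 2) W + q * fw ρ W (insert u A) := by
  by_cases hb : A = ⊥
  · have h1 : Fx ρ A = ⊤ := eq_top_iff.2 fun v _ g hg => by
      rw [show g = 1 from mem_bot.1 (hb ▸ hg), map_one, End.one_apply]
    rw [fw, fw, fw, Fx_insert, h1, inf_top_eq, inf_top_eq, add_comm]
  have := Fact.mk hq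
  have : Finite V := Module.finite_of_finite (ZMod 2)
  have : Finite (Multiplicative V ⋊[Frob.act ρ] X) := Finite.of_equiv _ SemidirectProduct.equivProd.symm
  have u1 : u ≠ 1 := fun e => hb (eq_bot_iff.2 fun a ha => hf a ha (by rw [e]; simp))
  have cu : Nat.card (zpowers u) = q := by rw [Nat.card_zpowers, orderOf_eq_prime hu u1]
  let j : X →* Multiplicative V ⋊[Frob.act ρ] X := inr
  have ji : Function.Injective j := inr_injective
  have cR : Nat.card ((zpowers u).map j) = q := by rw [card_map_of_injective ji, cu]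
  have nA : zpowers u ≤ normalizer (A : Set X) := zpowers_le.2 (mem_normalizer_fintype hn)
  have hF : FT.IsFrob (A.map j ⊔ (zpowers u).map j) (A.map j) ((zpowers u).map j) := by
    refine FT.isFrob_of_semiregular ((map_mono nA).trans (le_normalizer_map j))
      (FT.semiregular_of_prime (cR ▸ hq) (eq_bot_iff.2 ?_)) (fun e => hb ((map_eq_bot_iff_of_injective _ ji).1 e))
      fun e => u1 (zpowers_eq_bot.1 ((map_eq_bot_iff_of_injective _ ji).1 e))
    rintro _ ⟨⟨a, ha, rfl⟩, h⟩
    have h1 : j u * j a = j a * j u := h _ ⟨u, mem_zpowers u, rfl⟩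
    rw [← map_mul, ← map_mul] at h1
    rw [hf a ha (mul_inv_eq_iff_eq_mul.2 (ji h1)), map_one]
    exact one_mem _
  have nm : ∀ g, Inv ρ W g → j g ∈ normalizer (Frob.M ρ W : Set (Multiplicative V ⋊[Frob.act ρ] X)) := fun g hg =>
    mem_normalizer_fintype fun x hx => by
      obtain ⟨v, hv, rfl⟩ := Frob.mem_M.1 hx
      exact Frob.mem_M.2 ⟨_, hg v hv, (Frob.conj_inl g v).symm⟩
  have key := (FT.Frobenius_Wielandt_fixpoint (M := Frob.M ρ W) hF (sup_le (by
    rintro _ ⟨a, ha, rfl⟩; exact nm a (hW a ha)) (by rw [MonoidHom.map_zpowers]; exact zpowers_le.2 (nm u hu'))) (by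
      rw [Frob.card_M, ← hF.sdprod.card_eq, cR, card_map_of_injective ji]
      exact Nat.Coprime.pow_left _ (Nat.coprime_two_left.2 (hA.mul (hq.odd_of_ne_two h2)))) (by
      refine Group.isSolvable_of_comm fun a b => Subtype.ext ?_
      obtain ⟨_, v, -, rfl⟩ := a
      obtain ⟨_, w, -, rfl⟩ := b
      exact (map_mul _ v w).symm.trans ((congrArg _ (mul_comm v w)).trans (map_mul _ w v)))).1
  rw [← Subgroup.map_sup, Frob.M_inf, Frob.M_inf, Frob.M_inf, Frob.card_M, Frob.card_M, Frob.card_M, Frob.card_M, cR,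
    ← pow_mul, ← pow_mul, ← pow_add, ← pow_add, zpowers_eq_closure, Fx_closure,
    show A ⊔ closure {u} = closure (insert u (A : Set X)) by
      rw [Set.insert_eq, Subgroup.closure_union, closure_eq, sup_comm], Fx_closure] at key
  have := Nat.pow_right_injective le_rfl key
  rw [fw, fw, fw]
  linarith

end Cfsg.Agent.E7V
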