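import Mathlib
import Cfsg.Agent.E7V.Defs

set_option autoImplicit false

namespace Cfsg.Agent.E7V

open Module Matrix Cfsg.Lie

variable {X : Type*} [Group X] {V : Type*} [AddCommGroup V] [Module (ZMod 2) V]

theorem Lin.fx_eq (ρ : X →* End (ZMod 2) V) (a : X) : Fx ρ {a} = LinearMap.ker (ρ a - 1) := by
  ext v
  rw [mem_Fx_one, LinearMap.mem_ker, LinearMap.sub_apply, sub_eq_zero, End.one_apply]

theorem Lin.rank [FiniteDimensional (ZMod 2) V] (ρ : X →* End (ZMod 2) V) (a : X) :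
    finrank (ZMod 2) (LinearMap.range (ρ a - 1)) + fx ρ {a} = finrank (ZMod 2) V := by
  rw [fx, Lin.fx_eq]
  exact LinearMap.finrank_range_add_finrank_ker _

theorem Lin.mul (ρ : X →* End (ZMod 2) V) (g h : X) (v : V) : ρ (g * h) v = ρ g (ρ h v) := by
  rw [map_mul, End.mul_apply]

theorem cofix_of [FiniteDimensional (ZMod 2) V] (ρ : X →* End (ZMod 2) V) {S : Submodule (ZMod 2) V}
    (hS : S ≠ ⊤) (h : ∀ g v, ρ g v - v ∈ S) : CoFix ρ := by
  obtain ⟨f, h0, hf⟩ := S.exists_le_ker_of_lt_top hS.lt_top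
  exact ⟨f, h0, fun g v => by rw [← sub_eq_zero, ← map_sub]; exact hf (h g v)⟩

theorem scott [FiniteDimensional (ZMod 2) V] (ρ : X →* End (ZMod 2) V) {a b : X}
    (hg : Subgroup.closure {a, b} = ⊤)
    (h : finrank (ZMod 2) V < fx ρ {a} + fx ρ {b} + fx ρ {a * b}) : Fix ρ ∨ CoFix ρ := by
  by_contra h0
  rw [not_or] at h0
  obtain ⟨h1, h2⟩ := h0
  let δ := (ρ a - 1).rangeRestrict.prod (ρ b - 1).rangeRestrict
  let ε := (LinearMap.range (ρ a - 1)).subtype.coprod (ρ a ∘ₗ (LinearMap.range (ρ b - 1)).subtype)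
  have hδ : Function.Injective δ := by
    rw [injective_iff_map_eq_zero]
    intro v hv
    by_contra h3
    refine h1 ⟨v, h3, fun g => ?_⟩
    have ha : ρ a v - v = 0 := congrArg (fun x => (x.1 : V)) hv
    have hb : ρ b v - v = 0 := congrArg (fun x => (x.2 : V)) hv
    refine (Fx_closure ρ {a, b}).ge ?_ g (by rw [hg]; trivial)
    rintro s (rfl | rfl)
    · exact sub_eq_zero.1 ha
    · exact sub_eq_zero.1 hb
  have hε : LinearMap.range ε = ⊤ := by
    by_contra h3
    refine h2 (cofix_of ρ h3 fun g => ?_)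
    have ha : ∀ v, ρ a v - v ∈ LinearMap.range ε := fun v => ⟨(⟨_, v, rfl⟩, 0), by simp [ε]⟩
    have hb : ∀ v, ρ b v - v ∈ LinearMap.range ε := fun v => by
      have h4 : ρ a (ρ b v - v) ∈ LinearMap.range ε := ⟨(0, ⟨_, v, rfl⟩), by simp [ε]⟩
      simpa using sub_mem h4 (ha (ρ b v - v))
    have hm : g ∈ Subgroup.closure {a, b} := by rw [hg]; trivial
    induction hm using Subgroup.closure_induction with
    | mem x hx =>
      rcases hx with rfl | rfl
      · exact ha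
      · exact hb
    | one => simp
    | mul x y _ _ hx hy =>
      intro v
      rw [Lin.mul]
      simpa using add_mem (hx (ρ y v)) (hy v)
    | inv x _ hx =>
      intro v
      have h4 := neg_mem (hx (ρ x⁻¹ v))
      rwa [← Lin.mul, mul_inv_cancel, map_one, End.one_apply, neg_sub] at h4
  have h3 : (Fx ρ {a * b}).map δ ≤ LinearMap.ker ε := by
    rintro _ ⟨v, hv, rfl⟩
    have h4 : ρ a (ρ b v) = v := by rw [← Lin.mul]; exact mem_Fx_one.1 hv
    change ρ a v - v + ρ a (ρ b v - v) = 0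
    rw [map_sub, h4]
    abel
  have h4 := Submodule.finrank_mono h3
  rw [← (Submodule.equivMapOfInjective δ hδ _).finrank_eq] at h4
  have h5 := LinearMap.finrank_range_add_finrank_ker ε
  rw [hε, finrank_top, Module.finrank_prod] at h5
  have h6 := Lin.rank ρ a
  have h7 := Lin.rank ρ b
  change fx ρ {a * b} ≤ _ at h4
  omega

theorem inv2 [FiniteDimensional (ZMod 2) V] (ρ : X →* End (ZMod 2) V) {a : X} (ha : a ^ 2 = 1) :
    finrank (ZMod 2) V ≤ 2 * fx ρ {a} := by
  have h1 : LinearMap.range (ρ a - 1) ≤ Fx ρ {a} := by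
    rintro _ ⟨v, rfl⟩
    rw [mem_Fx_one, LinearMap.sub_apply, End.one_apply, map_sub, ← Lin.mul, ← sq, ha, map_one,
      End.one_apply, ← neg_sub, ZModModule.neg_eq_self]
  have h2 : _ ≤ fx ρ {a} := Submodule.finrank_mono h1
  have h3 := Lin.rank ρ a
  omega

theorem f255 {a b : X} (hg : Subgroup.closure {a, b} = ⊤) (ha : a ^ 2 = 1) (hb : orderOf b = 5)
    (hab : orderOf (a * b) = 5) : HasFix X := fun ρ h => by
  refine scott ρ hg ?_
  have h1 := inv2 ρ ha
  rw [h.t5 b hb, h.t5 _ hab]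
  rw [finrank_V56] at h1 ⊢
  omega

theorem a23 [FiniteDimensional (ZMod 2) V] (ρ : X →* End (ZMod 2) V) {a b : X} {n : ℕ} (hn : Odd n)
    (ha : a ^ 2 = 1) (hb : b ^ 3 = 1) (hab : (a * b) ^ n = 1) {W : Submodule (ZMod 2) V} (hW : Inv ρ W b) :
    fw ρ W {a * b} ≤ fw ρ W {b} := by
  let ψ : End (ZMod 2) V := 1 + ρ b + ρ b * ρ b
  have hψ : ∀ v, ψ v = v + ρ b v + ρ b (ρ b v) := fun v => rfl
  have h1 : ∀ v ∈ W ⊓ Fx ρ {a * b}, ψ v ∈ W ⊓ Fx ρ {b} := fun v hv => by
    refine ⟨?_, mem_Fx_one.2 ?_⟩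
    · rw [hψ]
      exact add_mem (add_mem hv.1 (hW v hv.1)) (hW _ (hW v hv.1))
    · have h2 : ρ b (ρ b (ρ b v)) = v := by
        rw [← Lin.mul, ← Lin.mul, ← pow_three', hb, map_one, End.one_apply]
      rw [hψ, map_add, map_add, h2]
      abel
  refine LinearMap.finrank_le_finrank_of_injective (f := ψ.restrict h1) ?_
  rw [injective_iff_map_eq_zero]
  rintro ⟨v, hv⟩ h2
  have h3 : v + ρ b v + ρ b (ρ b v) = 0 := congrArg Subtype.val h2
  have h4 : ρ (a * b) v = v := mem_Fx_one.1 hv.2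
  have h5 : ρ a v = ρ b v := by
    conv_lhs => rw [← h4, ← Lin.mul, ← mul_assoc, ← sq, ha, one_mul]
  have h6 : ρ (a * b) (ρ b (ρ b v)) = ρ b v := by
    rw [← Lin.mul, ← Lin.mul, mul_assoc a, mul_assoc a, ← pow_three', hb, mul_one, h5]
  have h7 : ρ (a * b) (ρ b v) = ρ b v + v := by
    have h8 := congrArg (ρ (a * b)) h3
    rw [map_add, map_add, h4, h6, map_zero, add_right_comm, add_eq_zero_iff_neg_eq,
      ZModModule.neg_eq_self] at h8
    rw [← h8, add_comm]
  have h8 : ∀ i : ℕ, ρ ((a * b) ^ i) (ρ b v) = ρ b v + i • v := fun i => by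
    induction i with
    | zero => simp
    | succ i ih => rw [pow_succ', Lin.mul, ih, map_add, h7, map_nsmul, h4, succ_nsmul']; abel
  have h9 := h8 n
  obtain ⟨k, rfl⟩ := hn
  rw [hab, map_one, End.one_apply, left_eq_add, add_nsmul, one_nsmul, mul_nsmul, two_nsmul,
    ZModModule.add_self, nsmul_zero, zero_add] at h9
  exact Subtype.ext h9

theorem two [FiniteDimensional (ZMod 2) V] (ρ : X →* End (ZMod 2) V) (W : Submodule (ZMod 2) V)
    (S T : Set X) : fw ρ W S + fw ρ W T ≤ finrank (ZMod 2) W + fw ρ W (S ∪ T) := by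
  have h1 := Submodule.finrank_sup_add_finrank_inf_eq (W ⊓ Fx ρ S) (W ⊓ Fx ρ T)
  have h2 : finrank (ZMod 2) (W ⊓ Fx ρ S ⊔ W ⊓ Fx ρ T : Submodule (ZMod 2) V) ≤ finrank (ZMod 2) W :=
    Submodule.finrank_mono (sup_le inf_le_left inf_le_left)
  rw [← inf_inf_distrib_left, ← Fx_union] at h1
  unfold fw
  omega

theorem triv13 [FiniteDimensional (ZMod 2) V] (ρ : X →* End (ZMod 2) V) {g : X} (hg : g ^ 13 = 1)
    {W : Submodule (ZMod 2) V} (hW : Inv ρ W g) (hd : finrank (ZMod 2) W < 12) : W ≤ Fx ρ {g} := by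
  classical
  have : Finite W := Module.finite_of_finite (ZMod 2)
  have := Fintype.ofFinite W
  have : Fact (Nat.Prime 13) := ⟨by norm_num⟩
  let f : Function.End W := fun w => ⟨ρ g w, hW _ w.2⟩
  have h1 : ∀ (i : ℕ) (w : W), ((f ^ i) w : V) = ρ (g ^ i) w := fun i => by
    induction i with
    | zero => intro w; rw [pow_zero, pow_zero, map_one]; rfl
    | succ i ih => intro w; rw [pow_succ, pow_succ, Lin.mul]; exact ih (f w)
  have h2 : f ^ 13 ^ 1 = 1 := funext fun w => Subtype.ext (by rw [pow_one, h1, hg, map_one]; rfl)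
  have h3 := Equiv.Perm.card_fixedPoints_modEq h2
  have h4 : Nat.card f.fixedPoints = Nat.card ((Fx ρ {g}).comap W.subtype) :=
    Nat.card_congr (Equiv.setCongr (Set.ext fun w => by
      rw [SetLike.mem_coe, Submodule.mem_comap, mem_Fx_one]
      exact Subtype.ext_iff))
  rw [← Nat.card_eq_fintype_card, ← Nat.card_eq_fintype_card, h4,
    Module.natCard_eq_pow_finrank (K := ZMod 2) (V := W),
    Module.natCard_eq_pow_finrank (K := ZMod 2) (V := (Fx ρ {g}).comap W.subtype),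
    Nat.card_zmod] at h3
  have h5 := Submodule.finrank_le ((Fx ρ {g}).comap W.subtype)
  have h6 : ∀ d < 12, ∀ e ≤ d, 2 ^ d % 13 = 2 ^ e % 13 → e = d := by decide
  have h7 := Submodule.eq_top_of_finrank_eq (h6 _ hd _ h5 h3)
  exact Submodule.comap_subtype_eq_top.1 h7

end Cfsg.Agent.E7V
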