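import Mathlib
import Cfsg.Agent.E7V.Defs

/-! Multiplicities of the characters of an abelian group of odd exponent on a module over `𝔽₂`. -/

set_option autoImplicit false

namespace Cfsg.Agent.E7V

open Module Matrix Cfsg.Lie
open scoped TensorProduct

variable {X : Type*} [Group X] {V : Type*} [AddCommGroup V] [Module (ZMod 2) V]

namespace Mult

theorem prod_mul : ∀ {k : ℕ} (a b : Fin k → X), (∀ i j, Commute (a i) (b j)) →
    (List.ofFn fun i => a i * b i).prod = (List.ofFn a).prod * (List.ofFn b).prod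
  | 0, _, _, _ => by simp
  | k + 1, a, b, h => by
    rw [List.ofFn_succ, List.ofFn_succ, List.ofFn_succ, List.prod_cons, List.prod_cons, List.prod_cons,
      prod_mul _ _ fun i j => h i.succ j.succ]
    exact (Commute.list_prod_right _ _ fun x hx => by
      obtain ⟨i, rfl⟩ := List.mem_ofFn.1 hx
      exact (h _ _).symm).mul_mul_mul_comm _ _

theorem eq_of_le {ι : Type*} [Fintype ι] (m : ι → ℕ) {f : ι → ι} (hf : Function.Injective f)
    (h : ∀ c, m c ≤ m (f c)) (c : ι) : m (f c) = m c :=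
  ((Finset.sum_eq_sum_iff_of_le fun c _ => h c).1
    (Function.Bijective.sum_comp (Finite.injective_iff_bijective.1 hf) m).symm c (Finset.mem_univ c)).symm

variable {K : Type*} [Field K] {W : Type*} [AddCommGroup W] [Module K W] {k n : ℕ}
  (ψ : AddChar (ZMod n) K) (τ : Multiplicative (Fin k → ZMod n) →* End K W)

/-- The joint eigenspace. -/
def Eig (c : Fin k → ZMod n) : Submodule K W where
  carrier := {w | ∀ e, τ (.ofAdd e) w = ψ (c ⬝ᵥ e) • w}
  add_mem' ha hb e := by rw [map_add, ha e, hb e, smul_add]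
  zero_mem' e := by rw [map_zero, smul_zero]
  smul_mem' r v hv e := by rw [map_smul, hv e, smul_comm]

variable [NeZero n]

/-- The projection onto the joint eigenspace. -/
def proj (c : Fin k → ZMod n) : End K W := ∑ e, ψ (c ⬝ᵥ -e) • τ (.ofAdd e)

theorem proj_apply (c : Fin k → ZMod n) (w : W) : proj ψ τ c w = ∑ e, ψ (c ⬝ᵥ -e) • τ (.ofAdd e) w := by
  simp only [proj, LinearMap.sum_apply, LinearMap.smul_apply]

theorem proj_mem (c : Fin k → ZMod n) (w : W) : proj ψ τ c w ∈ Eig ψ τ c := fun e => by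
  rw [proj_apply, map_sum, Finset.smul_sum]
  conv_rhs => rw [← Equiv.sum_comp (Equiv.addLeft e)]
  refine Finset.sum_congr rfl fun d _ => ?_
  rw [map_smul, ← End.mul_apply, ← map_mul, ← ofAdd_add, smul_smul, ← AddChar.map_add_eq_mul, ← dotProduct_add]
  simp

theorem proj_comm (c e : Fin k → ZMod n) (w : W) : τ (.ofAdd e) (proj ψ τ c w) = proj ψ τ c (τ (.ofAdd e) w) := by
  rw [proj_apply, proj_apply, map_sum]
  refine Finset.sum_congr rfl fun d _ => ?_
  rw [map_smul, ← End.mul_apply, ← End.mul_apply, ← map_mul τ, ← map_mul τ, mul_comm]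

variable {ψ} (hψ : ψ.IsPrimitive) (h1 : (n : K) = 1)
include hψ h1

theorem sum_psi (e : Fin k → ZMod n) : ∑ c : Fin k → ZMod n, ψ (e ⬝ᵥ c) = if e = 0 then 1 else 0 := by
  split_ifs with h
  · simp [h, h1]
  · obtain ⟨i, hi⟩ := Function.ne_iff.1 h
    refine AddChar.sum_eq_zero_of_ne_one (ψ := ψ.compAddMonoidHom
      (AddMonoidHom.mk' (fun c : Fin k → ZMod n => e ⬝ᵥ c) (dotProduct_add e))) fun h2 => hi ?_
    have := DFunLike.congr_fun h2 (Pi.single i 1)
    exact (hψ.zmod_char_eq_one_iff n _).1 (by simpa using this)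

theorem sum_proj (w : W) : ∑ c, proj ψ τ c w = w := by
  simp only [proj_apply]
  rw [Finset.sum_comm]
  simp only [← Finset.sum_smul, dotProduct_comm _ (-_), sum_psi hψ h1, neg_eq_zero]
  simp

theorem proj_eig {c d : Fin k → ZMod n} {w : W} (h : w ∈ Eig ψ τ d) : proj ψ τ c w = if d = c then w else 0 := by
  have : ∀ e, ψ (c ⬝ᵥ -e) • τ (.ofAdd e) w = ψ ((d - c) ⬝ᵥ e) • w := fun e => by
    rw [h e, smul_smul, ← AddChar.map_add_eq_mul, sub_dotProduct, dotProduct_neg, neg_add_eq_sub]
  simp only [proj_apply, this, ← Finset.sum_smul, sum_psi hψ h1, sub_eq_zero]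
  split_ifs <;> simp

theorem finrank_fix [FiniteDimensional K W] (S : Finset (Fin k → ZMod n)) :
    finrank K (⨅ e : S, LinearMap.ker (τ (.ofAdd e) - 1) : Submodule K W) =
      ∑ c ∈ Finset.univ.filter (fun c => ∀ e ∈ S, c ⬝ᵥ e = 0), finrank K (Eig ψ τ c) := by
  set T := Finset.univ.filter (fun c : Fin k → ZMod n => ∀ e ∈ S, c ⬝ᵥ e = 0) with hT
  let f : (∀ c : T, Eig ψ τ c) →ₗ[K] W := ∑ c : T, (Eig ψ τ c).subtype ∘ₗ LinearMap.proj c
  have hf : ∀ x, f x = ∑ c : T, (x c : W) := fun x => by simp [f]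
  have hi : Function.Injective f := (injective_iff_map_eq_zero f).2 fun x hx => funext fun c => Subtype.ext (by
    have := congrArg (proj ψ τ c) hx
    rw [hf, map_sum, map_zero, Finset.sum_eq_single c (fun d _ hd => by
      rw [proj_eig τ hψ h1 (x d).2, if_neg fun e => hd (Subtype.ext e)]) (by simp),
      proj_eig τ hψ h1 (x c).2, if_pos rfl] at this
    exact this)
  have hr : LinearMap.range f = ⨅ e : S, LinearMap.ker (τ (.ofAdd e) - 1) := by
    ext w
    simp only [Submodule.mem_iInf, LinearMap.mem_ker, LinearMap.sub_apply, End.one_apply, sub_eq_zero]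
    refine ⟨?_, fun h => ⟨fun c => ⟨_, proj_mem ψ τ c w⟩, ?_⟩⟩
    · rintro ⟨x, rfl⟩ e
      rw [hf, map_sum]
      refine Finset.sum_congr rfl fun c _ => ?_
      rw [(x c).2 e, (Finset.mem_filter.1 c.2).2 e e.2, AddChar.map_zero_eq_one, one_smul]
    · rw [hf, Finset.sum_coe_sort T fun c => proj ψ τ c w]
      refine (Finset.sum_subset (Finset.subset_univ T) fun c _ hc => ?_).trans (sum_proj τ hψ h1 w)
      by_contra h0
      refine hc (Finset.mem_filter.2 ⟨Finset.mem_univ _, fun e he => (hψ.zmod_char_eq_one_iff n _).1 ?_⟩)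
      have h2 := proj_mem ψ τ c w e
      rw [proj_comm, h ⟨e, he⟩] at h2
      exact smul_left_injective K h0 (h2.symm.trans (one_smul K _).symm)
  rw [← hr, LinearMap.finrank_range_of_inj hi, Module.finrank_pi_fintype,
    Finset.sum_coe_sort T fun c => finrank K (Eig ψ τ c)]

omit hψ h1 in
/-- The dimension of a common kernel is stable under base change. -/
theorem finrank_ker {F : Type*} [Field F] [Algebra F K] {U ι : Type*} [AddCommGroup U] [Module F U] [Fintype ι]
    (f : ι → End F U) : finrank K (⨅ i, LinearMap.ker ((f i).baseChange K) : Submodule K (K ⊗[F] U)) =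
      finrank F (⨅ i, LinearMap.ker (f i) : Submodule F U) := by
  classical
  have h : (TensorProduct.piRight F K K fun _ : ι => U).toLinearMap ∘ₗ
      TensorProduct.AlgebraTensorModule.lTensor K K (LinearMap.pi f) =
        LinearMap.pi fun i => (f i).baseChange K := by
    ext x i
    simp
  rw [← LinearMap.ker_pi, ← LinearMap.ker_pi, ← h, LinearEquiv.ker_comp,
    ← (LinearMap.tensorKerEquiv K K (LinearMap.pi f)).finrank_eq, Module.finrank_baseChange]

end Mult

theorem exists_phi {k n : ℕ} [NeZero n] (g : Fin k → X) (hc : ∀ i j, Commute (g i) (g j))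
    (hn : ∀ i, g i ^ n = 1) : ∃ φ : Multiplicative (Fin k → ZMod n) →* X,
      ∀ e, φ (.ofAdd e) = (List.ofFn fun i => g i ^ (e i).val).prod :=
  ⟨MonoidHom.mk' (fun e => (List.ofFn fun i => g i ^ (e.toAdd i).val).prod) fun a b => by
    rw [← Mult.prod_mul _ _ fun i j => (hc i j).pow_pow _ _]
    refine congrArg (fun x => (List.ofFn x).prod) (funext fun i => ?_)
    rw [toAdd_mul, Pi.add_apply, ZMod.val_add, ← pow_eq_pow_mod _ (hn i), pow_add], fun _ => rfl⟩

theorem conj_phi {k n : ℕ} [NeZero n] (φ : Multiplicative (Fin k → ZMod n) →* X) {u : X}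
    {M : Matrix (Fin k) (Fin k) (ZMod n)}
    (h : ∀ i, u * φ (.ofAdd (Pi.single i 1)) * u⁻¹ = φ (.ofAdd (M *ᵥ Pi.single i 1))) (e : Fin k → ZMod n) :
    u * φ (.ofAdd e) * u⁻¹ = φ (.ofAdd (M *ᵥ e)) := by
  have : Multiplicative.ofAdd e ∈ MonoidHom.eqLocus ((MulAut.conj u).toMonoidHom.comp φ)
      (φ.comp (AddMonoidHom.toMultiplicative M.mulVecLin.toAddMonoidHom)) := by
    rw [show e = ∑ i, (e i).val • (Pi.single i 1 : Fin k → ZMod n) from funext fun j => by
      simp only [Finset.sum_apply, Pi.smul_apply, Pi.single_apply]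
      simp, ofAdd_sum]
    exact prod_mem fun i _ => by rw [ofAdd_nsmul]; exact pow_mem (h i) _
  exact this

theorem mult [FiniteDimensional (ZMod 2) V] (ρ : X →* End (ZMod 2) V) {k n : ℕ} [NeZero n] (hn : Odd n)
    (φ : Multiplicative (Fin k → ZMod n) →* X) : ∃ m : (Fin k → ZMod n) → ℕ,
      finrank (ZMod 2) V = ∑ c, m c ∧
      (∀ S : Finset (Fin k → ZMod n), fx ρ ((fun e => φ (.ofAdd e)) '' S) =
        ∑ c ∈ Finset.univ.filter (fun c => ∀ e ∈ S, c ⬝ᵥ e = 0), m c) ∧
      (∀ c, m (2 • c) = m c) ∧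
      ∀ (u : X) (M N : Matrix (Fin k) (Fin k) (ZMod n)), M * N = 1 →
        (∀ e, u * φ (.ofAdd e) * u⁻¹ = φ (.ofAdd (M *ᵥ e))) → ∀ c, m (c ᵥ* M) = m c := by
  let K := AlgebraicClosure (ZMod 2)
  have h1 : (n : K) = 1 := by
    obtain ⟨j, rfl⟩ := hn
    rw [Nat.cast_add, Nat.cast_mul, CharP.cast_eq_zero K 2, zero_mul, zero_add, Nat.cast_one]
  have : NeZero (n : K) := ⟨h1 ▸ one_ne_zero⟩
  obtain ⟨ζ, hζ⟩ := HasEnoughRootsOfUnity.exists_primitiveRoot K n
  obtain ⟨ψ, hψ⟩ : ∃ ψ : AddChar (ZMod n) K, ψ.IsPrimitive :=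
    ⟨_, AddChar.zmodChar_primitive_of_primitive_root n hζ⟩
  let ρ' : X →* End K (K ⊗[ZMod 2] V) := (End.baseChangeHom (ZMod 2) K V : _ →* _).comp ρ
  have hρ : ∀ x, ρ' x = (ρ x).baseChange K := fun _ => rfl
  have h2 : ∀ S : Finset (Fin k → ZMod n), fx ρ ((fun e => φ (.ofAdd e)) '' S) =
      ∑ c ∈ Finset.univ.filter (fun c => ∀ e ∈ S, c ⬝ᵥ e = 0), finrank K (Mult.Eig ψ (ρ'.comp φ) c) := fun S => by
    rw [← Mult.finrank_fix _ hψ h1, fx, show Fx ρ ((fun e => φ (.ofAdd e)) '' S) =
      ⨅ e : S, LinearMap.ker (ρ (φ (.ofAdd e)) - 1) from Submodule.ext fun v => by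
        simp [mem_Fx, Submodule.mem_iInf, sub_eq_zero], ← Mult.finrank_ker (K := K)]
    refine congrArg (fun U : Submodule K (K ⊗[ZMod 2] V) => finrank K U) (iInf_congr fun e => ?_)
    rw [LinearMap.baseChange_sub, LinearMap.baseChange_one, MonoidHom.comp_apply, hρ]
  refine ⟨fun c => finrank K (Mult.Eig ψ (ρ'.comp φ) c), ?_, h2, ?_, fun u M N hM hu => ?_⟩
  · have := h2 ∅
    rw [fx, show Fx ρ ((fun e => φ (.ofAdd e)) '' (∅ : Finset (Fin k → ZMod n))) = ⊤ from
      eq_top_iff.2 fun v _ => by simp [mem_Fx], finrank_top] at this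
    simpa using this
  · refine Mult.eq_of_le (fun c => finrank K (Mult.Eig ψ (ρ'.comp φ) c)) (f := fun c => 2 • c)
      (fun a b h => funext fun i => ?_) fun c => ?_
    · have := congrFun h i
      simp only [Pi.smul_apply, nsmul_eq_mul] at this
      exact ((ZMod.isUnit_iff_coprime 2 n).2 (Nat.coprime_two_left.2 hn)).mul_left_cancel this
    · let F : K →ₗ[ZMod 2] K := (frobenius K 2).toAddMonoidHom.toZModLinearMap 2
      let j := F.rTensor V
      have j1 : Function.Injective j :=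
        Module.Flat.rTensor_preserves_injective_linearMap F (frobenius K 2).injective
      have j2 : ∀ (r : K) w, j (r • w) = frobenius K 2 r • j w := fun r w => by
        induction w using TensorProduct.induction_on with
        | zero => simp
        | tmul a v => exact congrArg (· ⊗ₜ v) (map_mul (frobenius K 2) r a)
        | add x y hx hy => rw [smul_add, map_add, map_add, hx, hy, smul_add]
      have j3 : ∀ x w, ρ' x (j w) = j (ρ' x w) := fun x w => by
        induction w using TensorProduct.induction_on with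
        | zero => simp
        | tmul a v => rfl
        | add x y hx hy => simp only [map_add, hx, hy]
      refine finrank_le_finrank_of_rank_le_rank (lift_rank_le_of_surjective_injective (frobenius K 2)
        (AddMonoidHom.mk' (fun w : Mult.Eig ψ (ρ'.comp φ) c =>
          (⟨j w, fun e => ?_⟩ : Mult.Eig ψ (ρ'.comp φ) (2 • c))) fun a b => Subtype.ext (map_add j _ _)) (surjective_frobenius K 2)
        (fun a b h => Subtype.ext (j1 (congrArg Subtype.val h))) fun r w => Subtype.ext (j2 r w))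
        (rank_lt_aleph0 _ _)
      rw [MonoidHom.comp_apply ρ', j3, ← MonoidHom.comp_apply ρ', w.2 e, j2, frobenius_def, smul_dotProduct,
        AddChar.map_nsmul_eq_pow]
  · refine Mult.eq_of_le (fun c => finrank K (Mult.Eig ψ (ρ'.comp φ) c)) (f := fun c => c ᵥ* M)
      (fun a b h => ?_) fun c => ?_
    · have := congrArg (· ᵥ* N) h
      simpa [hM] using this
    · refine LinearMap.finrank_le_finrank_of_injective (f := (ρ' u⁻¹).restrict (p := Mult.Eig ψ (ρ'.comp φ) c)
        (q := Mult.Eig ψ (ρ'.comp φ) (c ᵥ* M)) fun w hw e => ?_) fun a b h => Subtype.ext ?_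
      · rw [← dotProduct_mulVec, ← map_smul, ← hw, MonoidHom.comp_apply ρ', MonoidHom.comp_apply ρ', ← hu,
          ← End.mul_apply, ← End.mul_apply, ← map_mul ρ', ← map_mul ρ']
        congr 2
        group
      · have : ρ' u (ρ' u⁻¹ a) = ρ' u (ρ' u⁻¹ b) := congrArg (fun w : Mult.Eig ψ (ρ'.comp φ) (c ᵥ* M) => ρ' u w) h
        rwa [← End.mul_apply, ← End.mul_apply, ← map_mul ρ', mul_inv_cancel, map_one] at this

end Cfsg.Agent.E7V
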