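import Mathlib
import Cfsg.Agent.E7V.Defs
import Cfsg.Agent.E7V.Mult

set_option autoImplicit false

namespace Cfsg.Agent.E7V

open Module Matrix Cfsg.Lie

variable {X : Type*} [Group X] {V : Type*} [AddCommGroup V] [Module (ZMod 2) V]

namespace Part

theorem key (ρ : X →* End (ZMod 2) V) {W : Submodule (ZMod 2) V} {S : Set X} {S' : Set (End (ZMod 2) W)ˣ}
    (h : ∀ v : W, (∀ g ∈ S, ρ g v = v) ↔ ∀ g ∈ S', (g : End (ZMod 2) W) v = v) :
    fw ρ W S = fx (Units.coeHom (End (ZMod 2) W)) S' := by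
  suffices e : W ⊓ Fx ρ S = (Fx (Units.coeHom (End (ZMod 2) W)) S').map W.subtype by
    rw [fw, fx, e, Submodule.finrank_map_subtype_eq]
  ext v
  constructor
  · rintro ⟨h1, h2⟩
    exact ⟨⟨v, h1⟩, (h ⟨v, h1⟩).1 h2, rfl⟩
  · rintro ⟨w, hw, rfl⟩
    exact ⟨w.2, (h w).2 hw⟩

theorem count {p : ℕ} [Fact p.Prime] (x y : ZMod p) (m : ℕ) :
    m + p * (if x = 0 ∧ y = 0 then m else 0) =
      (if x = 0 then m else 0) + ∑ i ∈ Finset.range p, if x * (i : ZMod p) + y = 0 then m else 0 := by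
  by_cases hx : x = 0
  · by_cases hy : y = 0 <;> simp [hx, hy]
  · rw [Finset.sum_eq_single (-y / x).val]
    · simp [hx, mul_div_cancel₀]
    · intro i hi ne
      refine if_neg fun e => ne ?_
      rw [← ZMod.val_cast_of_lt (Finset.mem_range.1 hi)]
      congr 1
      rw [eq_div_iff hx]
      linear_combination e
    · exact fun h => absurd (Finset.mem_range.2 (ZMod.val_lt _)) h

end Part

theorem part [FiniteDimensional (ZMod 2) V] (ρ : X →* End (ZMod 2) V) {p : ℕ} (hp : p.Prime) (h2 : p ≠ 2)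
    {W : Submodule (ZMod 2) V} {a b : X} (ha : Inv ρ W a) (hb : Inv ρ W b)
    (hc : ∀ v ∈ W, ρ (a * b) v = ρ (b * a) v) (pa : ∀ v ∈ W, ρ (a ^ p) v = v)
    (pb : ∀ v ∈ W, ρ (b ^ p) v = v) :
    finrank (ZMod 2) W + p * fw ρ W {a, b} = fw ρ W {a} + ∑ i ∈ Finset.range p, fw ρ W {a ^ i * b} := by
  haveI : Fact p.Prime := ⟨hp⟩
  have res : ∀ {g : X} (hg : Inv ρ W g) (i : ℕ) (v : W), ((((ρ g).restrict hg ^ i) v : W) : V) = ρ (g ^ i) v :=
    fun hg i v => by rw [End.pow_restrict i hg, LinearMap.restrict_coe_apply, map_pow]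
  obtain ⟨A, hA⟩ : ∃ A : (End (ZMod 2) W)ˣ, (A : End (ZMod 2) W) = (ρ a).restrict ha :=
    ⟨Units.ofPowEqOne _ p (LinearMap.ext fun v => Subtype.ext ((res ha p v).trans (pa v v.2))) hp.ne_zero, rfl⟩
  obtain ⟨B, hB⟩ : ∃ B : (End (ZMod 2) W)ˣ, (B : End (ZMod 2) W) = (ρ b).restrict hb :=
    ⟨Units.ofPowEqOne _ p (LinearMap.ext fun v => Subtype.ext ((res hb p v).trans (pb v v.2))) hp.ne_zero, rfl⟩
  have ev : ∀ (i j : ℕ) (v : W), (((A ^ i * B ^ j : (End (ZMod 2) W)ˣ) : End (ZMod 2) W) v : V) = ρ (a ^ i * b ^ j) v :=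
    fun i j v => by
      rw [Units.val_mul, Units.val_pow_eq_pow_val, Units.val_pow_eq_pow_val, hA, hB, End.mul_apply, res, res, map_mul,
        End.mul_apply]
  have cAB : Commute A B := Units.ext (LinearMap.ext fun v => Subtype.ext (by
    have := hc v v.2
    rw [map_mul, map_mul] at this
    rw [Units.val_mul, Units.val_mul, hA, hB]
    exact this))
  obtain ⟨φ, hφ⟩ := exists_phi (n := p) ![A, B]
    (fun i j => by fin_cases i <;> fin_cases j <;> first | exact Commute.refl _ | exact cAB | exact cAB.symm)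
    (fun i => by
      fin_cases i
      · exact Units.ext (LinearMap.ext fun v => Subtype.ext (by
          have := ev p 0 v
          rwa [pow_zero, pow_zero, mul_one, mul_one, pa v v.2] at this))
      · exact Units.ext (LinearMap.ext fun v => Subtype.ext (by
          have := ev 0 p v
          rwa [pow_zero, pow_zero, one_mul, one_mul, pb v v.2] at this)))
  have e1 : ∀ (i j : ℕ), i < p → j < p → ∀ v : W,
      (φ (.ofAdd ![(i : ZMod p), (j : ZMod p)]) : End (ZMod 2) W) v = v ↔ ρ (a ^ i * b ^ j) v = v := fun i j hi hj v => by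
    rw [← ev, Subtype.ext_iff, hφ]
    simp [ZMod.val_cast_of_lt hi, ZMod.val_cast_of_lt hj]
  obtain ⟨m, m1, m2, -⟩ := mult (Units.coeHom (End (ZMod 2) W)) (hp.odd_of_ne_two h2) φ
  have k1 : fw ρ W {a, b} = _ := (Part.key ρ fun v => by
    simp only [Finset.coe_pair, Set.image_pair, Set.mem_insert_iff, Set.mem_singleton_iff, forall_eq_or_imp, forall_eq,
      e1 1 0 hp.one_lt hp.pos, e1 0 1 hp.pos hp.one_lt, pow_one, pow_zero, mul_one, one_mul]).trans
    (m2 {![((1 : ℕ) : ZMod p), ((0 : ℕ) : ZMod p)], ![((0 : ℕ) : ZMod p), ((1 : ℕ) : ZMod p)]})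
  have k2 : fw ρ W {a} = _ := (Part.key ρ fun v => by
    simp only [Finset.coe_singleton, Set.image_singleton, Set.mem_singleton_iff, forall_eq,
      e1 1 0 hp.one_lt hp.pos, pow_one, pow_zero, mul_one]).trans
    (m2 {![((1 : ℕ) : ZMod p), ((0 : ℕ) : ZMod p)]})
  have k3 : ∀ i ∈ Finset.range p, fw ρ W {a ^ i * b} = _ := fun i hi => (Part.key ρ fun v => by
    simp only [Finset.coe_singleton, Set.image_singleton, Set.mem_singleton_iff, forall_eq,
      e1 i 1 (Finset.mem_range.1 hi) hp.one_lt, pow_one]).trans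
    (m2 {![(i : ZMod p), ((1 : ℕ) : ZMod p)]})
  rw [m1, k1, k2, Finset.sum_congr rfl k3]
  simp only [Finset.sum_filter]
  rw [Finset.sum_comm, Finset.mul_sum, ← Finset.sum_add_distrib, ← Finset.sum_add_distrib]
  refine Finset.sum_congr rfl fun c _ => ?_
  simpa [dotProduct, Fin.sum_univ_two] using Part.count (c 0) (c 1) (m c)

end Cfsg.Agent.E7V
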