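import Mathlib
import Cfsg.Agent.E7V.Defs
import Cfsg.Agent.E7V.Lin
import Cfsg.Agent.E7V.Part
import Cfsg.Agent.E7V.Frob

/-! Arithmetic of the subgroups `5²`, `3^{1+2}` on the module of dimension 56. -/

set_option autoImplicit false

namespace Cfsg.Agent.E7V

open Module Matrix Cfsg.Lie

variable {X : Type*} [Group X] {V : Type*} [AddCommGroup V] [Module (ZMod 2) V]

variable {ρ : X →* End (ZMod 2) V56}

namespace Cfg

theorem one_ap (ρ : X →* End (ZMod 2) V) {g : X} (h : g = 1) (v : V) : ρ g v = v := by rw [h, map_one]; rfl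

theorem inv_comm (ρ : X →* End (ZMod 2) V) {S : Set X} {g : X} (h : ∀ s ∈ S, Commute g s) : Inv ρ (Fx ρ S) g :=
  inv_Fx ρ fun s hs => by
    rw [mul_assoc, ← (h s hs).eq, inv_mul_cancel_left]; exact Subgroup.subset_closure hs

theorem fx_le (ρ : X →* End (ZMod 2) V56) {S T : Set X} (h : Fx ρ S ≤ Fx ρ T) : fx ρ S ≤ fx ρ T := Submodule.finrank_mono h

theorem part_top (ρ : X →* End (ZMod 2) V56) {p : ℕ} (hp : p.Prime) (h2 : p ≠ 2) {a b : X} (hc : Commute a b)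
    (pa : a ^ p = 1) (pb : b ^ p = 1) :
    56 + p * fx ρ {a, b} = fx ρ {a} + ∑ i ∈ Finset.range p, fx ρ {a ^ i * b} := by
  have := part ρ hp h2 (inv_top ρ a) (inv_top ρ b) (fun v _ => by rw [hc.eq]) (fun v _ => one_ap ρ pa v)
    fun v _ => one_ap ρ pb v
  simpa only [fw_top, finrank_top, finrank_V56] using this

theorem part_fx (ρ : X →* End (ZMod 2) V56) {p : ℕ} (hp : p.Prime) (h2 : p ≠ 2) {S : Set X} {a b : X}
    (ha : Inv ρ (Fx ρ S) a) (hb : Inv ρ (Fx ρ S) b) (hc : ∀ v ∈ Fx ρ S, ρ (a * b) v = ρ (b * a) v)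
    (pa : a ^ p = 1) (pb : b ^ p = 1) :
    fx ρ S + p * fx ρ (S ∪ {a, b}) = fx ρ (insert a S) + ∑ i ∈ Finset.range p, fx ρ (insert (a ^ i * b) S) := by
  have := part ρ hp h2 ha hb hc (fun v _ => one_ap ρ pa v) fun v _ => one_ap ρ pb v
  simp only [fw_Fx, Set.union_singleton] at this
  exact this

variable {x y u : X} {i j k l : ℕ} (hc : Commute x y) (hx : orderOf x = 5) (hy : ∀ i < 5, orderOf (x ^ i * y) = 5)
include hc hx hy

theorem y5 : y ^ 5 = 1 := by
  have := hy 0 (by norm_num)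
  rw [pow_zero, one_mul] at this
  exact this ▸ pow_orderOf_eq_one y

theorem mulxy (a b c d : ℕ) : x ^ a * y ^ b * (x ^ c * y ^ d) = x ^ (a + c) * y ^ (b + d) := by
  rw [pow_add, pow_add, mul_assoc, mul_assoc, ← mul_assoc (y ^ b), ← (hc.pow_pow c b).eq, mul_assoc]

theorem powxy (a b c : ℕ) : (x ^ a * y ^ b) ^ c = x ^ (a * c) * y ^ (b * c) := by
  rw [(hc.pow_pow a b).mul_pow, pow_mul, pow_mul]

theorem indep {p q : ℕ} (h : x ^ p * y ^ q = 1) : 5 ∣ p ∧ 5 ∣ q := by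
  have y5 := y5 hc hx hy
  have h1 : 5 ∣ q := by
    by_contra k
    have e : q * q ^ 3 % 5 = 1 := by
      have : q % 5 = 1 ∨ q % 5 = 2 ∨ q % 5 = 3 ∨ q % 5 = 4 := by omega
      rcases this with e | e | e | e <;> simp [Nat.mul_mod, Nat.pow_mod, e]
    have h2 := congrArg (· ^ q ^ 3) h
    simp only [powxy hc hx hy, one_pow] at h2
    rw [← pow_mod_orderOf x, hx, pow_eq_pow_mod _ y5, e, pow_one] at h2
    have := hy _ (Nat.mod_lt (p * q ^ 3) (by norm_num))
    rw [h2, orderOf_one] at this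
    omega
  obtain ⟨r, rfl⟩ := h1
  rw [pow_mul, y5, one_pow, mul_one] at h
  exact ⟨hx ▸ orderOf_dvd_of_pow_eq_one h, dvd_mul_right _ _⟩

theorem one5 (a b : ℕ) : (x ^ a * y ^ b) ^ 5 = 1 := by
  rw [powxy hc hx hy, mul_comm a, mul_comm b, pow_mul, pow_mul, y5 hc hx hy, ← hx, pow_orderOf_eq_one]; simp

theorem form {g : X} (hg : g ∈ Subgroup.closure {x, y}) : ∃ a b : ℕ, g = x ^ a * y ^ b := by
  induction hg using Subgroup.closure_induction with
  | mem g hg => rcases hg with rfl | rfl; exacts [⟨1, 0, by simp⟩, ⟨0, 1, by simp⟩]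
  | one => exact ⟨0, 0, by simp⟩
  | mul g g' _ _ h1 h2 =>
    obtain ⟨a, b, rfl⟩ := h1
    obtain ⟨c, d, rfl⟩ := h2
    exact ⟨_, _, mulxy hc hx hy a b c d⟩
  | inv g _ h1 =>
    obtain ⟨a, b, rfl⟩ := h1
    refine ⟨a * 4, b * 4, ?_⟩
    rw [← powxy hc hx hy, inv_eq_iff_mul_eq_one, ← pow_succ', one5 hc hx hy]

omit hc hx hy in
theorem memxy (a b : ℕ) : x ^ a * y ^ b ∈ Subgroup.closure {x, y} :=
  mul_mem (pow_mem (Subgroup.subset_closure (by simp)) _) (pow_mem (Subgroup.subset_closure (by simp)) _)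

variable (hux : u * x * u⁻¹ = x ^ i * y ^ j) (huy : u * y * u⁻¹ = x ^ k * y ^ l)
include hux huy

theorem cjxy (a b : ℕ) : u * (x ^ a * y ^ b) * u⁻¹ = x ^ (i * a + k * b) * y ^ (j * a + l * b) := by
  rw [← conj_mul, ← conj_pow, ← conj_pow, hux, huy, powxy hc hx hy, powxy hc hx hy, mulxy hc hx hy]

omit hc hx hy in
theorem invF (ρ : X →* End (ZMod 2) V) (hu : u ^ 3 = 1) : Inv ρ (Fx ρ {x, y}) u⁻¹ ∧ Inv ρ (Fx ρ {x, y}) u := by
  have h1 : Inv ρ (Fx ρ {x, y}) u⁻¹ := inv_Fx ρ (by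
    rintro _ (rfl | rfl)
    · rw [inv_inv, hux]; exact memxy _ _
    · rw [inv_inv, huy]; exact memxy _ _)
  refine ⟨h1, fun v hv => ?_⟩
  have e : u = u⁻¹ * u⁻¹ := by rw [eq_mul_inv_iff_mul_eq, eq_inv_iff_mul_eq_one, ← pow_three', hu]
  rw [e, map_mul, End.mul_apply]
  exact h1 _ (h1 _ hv)

end Cfg

open Cfg

theorem fxT (h : Tab ρ) {x y : X} (hc : Commute x y) (hx : orderOf x = 5)
    (hy : ∀ i < 5, orderOf (x ^ i * y) = 5) : fx ρ {x, y} = 8 := by
  have := part_top ρ (by norm_num : Nat.Prime 5) (by norm_num) hc (hx ▸ pow_orderOf_eq_one x) (y5 hc hx hy)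
  rw [h.t5 x hx, Finset.sum_congr rfl fun i hi => h.t5 _ (hy i (Finset.mem_range.1 hi))] at this
  simp at this
  omega

theorem Cfg.fpf (h : Tab ρ) {x y u : X} {i j k l : ℕ} (hc : Commute x y) (hx : orderOf x = 5)
    (hy : ∀ i < 5, orderOf (x ^ i * y) = 5) (hu : u ^ 3 = 1) (hux : u * x * u⁻¹ = x ^ i * y ^ j)
    (huy : u * y * u⁻¹ = x ^ k * y ^ l) (hd : ((i : ZMod 5) - 1) * (l - 1) ≠ j * k) :
    fx ρ {u} = 20 ∧ fx ρ {u, x, y} = 4 := by
  have : Finite X := Finite.of_injective (fun g v => ρ g v) fun a b e => h.inj (LinearMap.ext (congrFun e))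
  have : Fact (Nat.Prime 5) := ⟨by norm_num⟩
  have : Fact (Nat.Prime 3) := ⟨by norm_num⟩
  have hf : ∀ a ∈ Subgroup.closure {x, y}, u * a * u⁻¹ = a → a = 1 := fun g hg e => by
    obtain ⟨a, b, rfl⟩ := form hc hx hy hg
    have e1 := congrArg (· * (x ^ a * y ^ b) ^ 4) e
    simp only [cjxy hc hx hy hux huy] at e1
    rw [← pow_succ', one5 hc hx hy, powxy hc hx hy, mulxy hc hx hy] at e1
    obtain ⟨d1, d2⟩ := indep hc hx hy e1
    rw [← ZMod.natCast_eq_zero_iff] at d1 d2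
    push_cast at d1 d2
    have h5 : (5 : ZMod 5) = 0 := rfl
    have hd' := sub_ne_zero.2 hd
    have a0 : (a : ZMod 5) = 0 := (mul_eq_zero.1 (by
      linear_combination (l - 1) * d1 - k * d2 - (a * (l - 1) - k * b) * h5)).resolve_left hd'
    have b0 : (b : ZMod 5) = 0 := (mul_eq_zero.1 (by
      linear_combination (i - 1) * d2 - j * d1 - (b * (i - 1) - j * a) * h5)).resolve_left hd'
    rw [ZMod.natCast_eq_zero_iff] at a0 b0
    obtain ⟨a, rfl⟩ := a0
    obtain ⟨b, rfl⟩ := b0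
    rw [mul_comm 5, mul_comm 5, ← powxy hc hx hy, one5 hc hx hy]
  have hP : IsPGroup 5 (Subgroup.closure {x, y}) := fun g => ⟨1, Subtype.ext (by
    obtain ⟨a, b, e⟩ := form hc hx hy g.2
    rw [pow_one, SubgroupClass.coe_pow, e, one5 hc hx hy]; rfl)⟩
  obtain ⟨n, hn⟩ := IsPGroup.iff_card.1 hP
  have := frob ρ (A := Subgroup.closure {x, y}) (hn ▸ Odd.pow (by decide)) (fun g hg g' hg' => by
      obtain ⟨a, b, rfl⟩ := form hc hx hy hg
      obtain ⟨c, d, rfl⟩ := form hc hx hy hg'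
      rw [mulxy hc hx hy, mulxy hc hx hy, add_comm a, add_comm b]) (by norm_num : Nat.Prime 3) (by norm_num) hu
    (fun g hg => by
      obtain ⟨a, b, rfl⟩ := form hc hx hy hg
      rw [cjxy hc hx hy hux huy]; exact memxy _ _) hf (fun g _ => inv_top ρ g) (inv_top ρ u)
  rw [fw_top, fw_top, fw_top, finrank_top, finrank_V56, fx, fx, fx, Fx_closure, Fx_insert ρ u, Fx_closure, ← Fx_insert,
    ← fx, ← fx, ← fx, fxT h hc hx hy] at this
  have h1 : fx ρ {u, x, y} ≤ 8 := fxT h hc hx hy ▸ fx_le ρ (Fx_anti ρ (Set.subset_insert _ _))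
  have h2 := h.t3 u (orderOf_eq_prime hu fun e => by
    have := hf x (Subgroup.subset_closure (by simp)) (by simp [e])
    rw [this, orderOf_one] at hx
    omega)
  simp only [List.mem_cons, List.not_mem_nil, or_false] at h2
  omega

theorem fpf3 (h : Tab ρ) {x y u : X} {i j k l : ℕ} (hc : Commute x y) (hx : orderOf x = 5)
    (hy : ∀ i < 5, orderOf (x ^ i * y) = 5) (hu : orderOf u = 3) (hux : u * x * u⁻¹ = x ^ i * y ^ j)
    (huy : u * y * u⁻¹ = x ^ k * y ^ l) (hd : ((i : ZMod 5) - 1) * (l - 1) ≠ j * k) :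
    fx ρ {u} = 20 ∧ fx ρ {u, x, y} = 4 := fpf h hc hx hy (hu ▸ pow_orderOf_eq_one u) hux huy hd

theorem cfg5 (h : Tab ρ) {x y u a b : X} {i j k l : ℕ} (hc : Commute x y) (hx : orderOf x = 5)
    (hy : ∀ i < 5, orderOf (x ^ i * y) = 5) (hu : orderOf u = 3) (hux : u * x * u⁻¹ = x ^ i * y ^ j)
    (huy : u * y * u⁻¹ = x ^ k * y ^ l) (hd : ((i : ZMod 5) - 1) * (l - 1) ≠ j * k)
    (ha : a ^ 2 = 1) (hb : orderOf b = 3) (hab : a * b = y) (xb : Commute x b)
    (hg : u ∈ Subgroup.closure {x, y, b, u * b * u⁻¹, u⁻¹ * b * u}) : fx ρ {b} = 32 := by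
  have y5 := y5 hc hx hy
  have f8 := fxT h hc hx hy
  have h1 := a23 ρ (by decide : Odd 5) ha (hb ▸ pow_orderOf_eq_one b) (hab ▸ y5) (W := Fx ρ {x})
    (inv_comm ρ (by rintro _ rfl; exact xb.symm))
  rw [fw_Fx, fw_Fx, hab, Set.singleton_union, Set.singleton_union, f8, Set.pair_comm] at h1
  have h2 := h.t15 b x hb hx xb.symm
  simp only [List.mem_cons, List.not_mem_nil, or_false, Prod.mk.injEq] at h2
  by_contra ne
  have h3 : fx ρ {b, x} = 12 := by omega
  have ax : a * x * a⁻¹ = x := by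
    rw [eq_mul_inv_of_mul_eq hab, mul_inv_eq_iff_eq_mul]; exact (hc.mul_right xb.inv_right).symm.eq
  have h4 := fx_conj ρ a {b, x}
  rw [Set.image_pair, ax, h3] at h4
  have h5 := two ρ (Fx ρ {x}) {b} {a * b * a⁻¹}
  rw [fw_Fx, fw_Fx, fw_Fx, Set.union_singleton, Set.union_singleton, h3, h4, ← fx, h.t5 x hx] at h5
  have ai : a⁻¹ = a := by rw [inv_eq_iff_mul_eq_one, ← pow_two, ha]
  have e : (a * b * a⁻¹ * b) ^ 3 = y := by
    rw [ai, mul_assoc, hab, ← pow_two, ← pow_mul, show 2 * 3 = 5 + 1 from rfl, pow_succ, y5, one_mul]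
  have l1 : Fx ρ ({x} ∪ ({b} ∪ {a * b * a⁻¹})) ≤ Fx ρ {x, y} := by
    rw [← Fx_closure]
    refine Fx_anti ρ (Set.pair_subset (Subgroup.subset_closure (by simp)) ?_)
    rw [← e]
    exact pow_mem (mul_mem (Subgroup.subset_closure (by simp)) (Subgroup.subset_closure (by simp))) 3
  have e1 := Submodule.eq_of_le_of_finrank_le l1 (by rw [← fx, ← fx, f8]; omega)
  have l2 : ∀ v ∈ Fx ρ {x, y}, ρ b v = v := fun v hv => (e1.ge hv) b (by simp)
  obtain ⟨i1, i2⟩ := invF hux huy ρ (hu ▸ pow_orderOf_eq_one u)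
  have l3 : Fx ρ {x, y} ≤ Fx ρ {u, x, y} := fun v hv => by
    rw [Fx_insert]
    refine ⟨mem_Fx_one.2 ((Fx_closure ρ _).ge ?_ u hg), hv⟩
    rintro _ (rfl | rfl | rfl | rfl | rfl)
    · exact hv _ (by simp)
    · exact hv _ (by simp)
    · exact l2 v hv
    · rw [map_mul, map_mul, End.mul_apply, End.mul_apply, l2 _ (i1 v hv), ← End.mul_apply, ← map_mul]
      exact one_ap ρ (mul_inv_cancel u) v
    · rw [map_mul, map_mul, End.mul_apply, End.mul_apply, l2 _ (i2 v hv), ← End.mul_apply, ← map_mul]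
      exact one_ap ρ (inv_mul_cancel u) v
  have := fx_le ρ l3
  rw [f8, (fpf3 h hc hx hy hu hux huy hd).2] at this
  omega

theorem Cfg.ext_one (h : Tab ρ) {b t c : X} (hb : orderOf b = 3) (bt : Commute b t) (bc : Commute b c)
    (e : c * t * c⁻¹ = b * t) (ht : t ^ 3 = 1) : (56 + 3 * fx ρ {t, b} - fx ρ {b}) % 9 = 6 := by
  have : Fact (Nat.Prime 3) := ⟨by norm_num⟩
  have h1 := part_top ρ (by norm_num : Nat.Prime 3) (by norm_num) bt (hb ▸ pow_orderOf_eq_one b) ht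
  have h2 := fx_isConj ρ (isConj_iff.2 ⟨c, e⟩)
  have h3 := fx_isConj ρ (isConj_iff.2 ⟨c, show c * (b * t) * c⁻¹ = b ^ 2 * t by
    rw [← mul_assoc, ← bc.eq, mul_assoc b, mul_assoc b, e, pow_two, mul_assoc]⟩)
  have h4 := h.t3 t (orderOf_eq_prime ht fun k => by
    rw [k, mul_one, mul_one, mul_inv_cancel] at e
    rw [← e, orderOf_one] at hb
    omega)
  simp only [Finset.sum_range_succ, Finset.sum_range_zero, pow_zero, pow_one, one_mul, ← h2, ← h3] at h1
  simp only [List.mem_cons, List.not_mem_nil, or_false] at h4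
  rw [Set.pair_comm]
  omega

theorem Cfg.step {b v t : X} (hb : b ^ 3 = 1) (bv : Commute b v) (bt : Commute b t) (e : v * t = b * t * v)
    (hv : v ^ 3 = 1) (ht : t ^ 3 = 1) : (v * t) ^ 3 = 1 ∧ v * (v * t) = b * (v * t) * v := by
  have e' : ∀ w, v * (t * w) = b * (t * (v * w)) := fun w => by rw [← mul_assoc, e]; simp only [mul_assoc]
  have c1 : ∀ w, v * (b * w) = b * (v * w) := fun w => by rw [← mul_assoc, ← bv.eq, mul_assoc]
  have c2 : ∀ w, t * (b * w) = b * (t * w) := fun w => by rw [← mul_assoc, ← bt.eq, mul_assoc]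
  constructor
  · have : (v * t) ^ 3 * 1 = b ^ 3 * (b ^ 3 * (t ^ 3 * v ^ 3)) * 1 := by
      simp only [pow_three, mul_assoc, e', c1, c2]
    rw [mul_one] at this
    rw [this, hb, hv, ht]; simp
  · conv_lhs => rw [e]
    simp only [mul_assoc, c1]

theorem ext3 (h : Tab ρ) {b v w : X} (hb : orderOf b = 3) (bv : Commute b v) (bw : Commute b w)
    (hvw : v * w = b * w * v) (hv : v ^ 3 = 1) (hw : w ^ 3 = 1) : fx ρ {b} ∈ [2, 20] := by
  have b3 : b ^ 3 = 1 := hb ▸ pow_orderOf_eq_one b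
  obtain ⟨p1, q1⟩ := step b3 bv bw hvw hv hw
  obtain ⟨p2, q2⟩ := step b3 bv (bv.mul_right bw) q1 hv p1
  have h1 := part_fx ρ (by norm_num : Nat.Prime 3) (by norm_num) (S := {b}) (inv_comm ρ (by rintro _ rfl; exact bv.symm))
    (inv_comm ρ (by rintro _ rfl; exact bw.symm)) (fun u hu => by
      rw [hvw, mul_assoc, (bw.mul_right bv).eq, map_mul, End.mul_apply, mem_Fx_one.1 hu]) hv hw
  have k0 := ext_one h hb bv bw.inv_right (by rw [inv_inv, mul_assoc, hvw, ← bw.symm.eq]; group) hv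
  have k1 := ext_one h hb bw bv (mul_inv_eq_of_eq_mul hvw) hw
  have k2 := ext_one h hb (bv.mul_right bw) bv (mul_inv_eq_of_eq_mul q1) p1
  have k3 := ext_one h hb (bv.mul_right (bv.mul_right bw)) bv (mul_inv_eq_of_eq_mul q2) p2
  have h2 := h.t3 b hb
  simp only [Finset.sum_range_succ, Finset.sum_range_zero, pow_zero, pow_one, one_mul, pow_two, mul_assoc] at h1
  simp only [List.mem_cons, List.not_mem_nil, or_false] at h2 ⊢
  omega

theorem cfg16 (h : Tab ρ) {x y u w : X} {i j k l : ℕ} (hc : Commute x y) (hx : orderOf x = 5)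
    (hy : ∀ i < 5, orderOf (x ^ i * y) = 5) (hw : orderOf w = 3) (hwx : w * x * w⁻¹ = x ^ i * y ^ j)
    (hwy : w * y * w⁻¹ = x ^ k * y ^ l) (hd : ((i : ZMod 5) - 1) * (l - 1) ≠ j * k)
    (ux : Commute u x) (uy : Commute u y) (uw : Commute u w) (hu : IsConj u w) : False := by
  have w3 : w ^ 3 = 1 := hw ▸ pow_orderOf_eq_one w
  have ou : orderOf u = 3 := by
    obtain ⟨c, rfl⟩ := isConj_iff.1 hu
    exact ((MulAut.conj c).orderOf_eq u).symm.trans hw
  have u3 : u ^ 3 = 1 := ou ▸ pow_orderOf_eq_one u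
  have f : ∀ n : ℕ, fx ρ {u ^ n * w, x, y} = 4 := fun n => by
    have c : ∀ a b : ℕ, u ^ n * (x ^ a * y ^ b) * (u ^ n)⁻¹ = x ^ a * y ^ b := fun a b =>
      mul_inv_eq_of_eq_mul ((ux.pow_pow n a).mul_right (uy.pow_pow n b)).eq
    refine (fpf h hc hx hy ?_ (i := i) (j := j) (k := k) (l := l) ?_ ?_ hd).2
    · rw [(uw.pow_left n).mul_pow, w3, ← pow_mul, mul_comm n, pow_mul, u3, one_pow, one_mul]
    · rw [← c, ← hwx]; group
    · rw [← c, ← hwy]; group
  have f20 : fx ρ {u} = 20 := (fx_isConj ρ hu).trans (fpf3 h hc hx hy hw hwx hwy hd).1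
  have h1 := part_fx ρ (by norm_num : Nat.Prime 3) (by norm_num) (S := {x, y})
    (inv_comm ρ (by rintro _ (rfl | rfl); exacts [ux, uy])) (invF hwx hwy ρ w3).2 (fun v _ => by rw [uw.eq]) u3 w3
  have h2 := part_fx ρ (by norm_num : Nat.Prime 5) (by norm_num) (S := {u}) (inv_comm ρ (by rintro _ rfl; exact ux.symm))
    (inv_comm ρ (by rintro _ rfl; exact uy.symm)) (fun v _ => by rw [hc.eq]) (hx ▸ pow_orderOf_eq_one x) (y5 hc hx hy)
  have t : ∀ g, orderOf g = 5 → Commute u g → fx ρ {g, u} % 8 = 4 := fun g h5 c => by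
    have := h.t15 u g ou h5 c
    simp only [List.mem_cons, List.not_mem_nil, or_false, Prod.mk.injEq, f20] at this
    rw [Set.pair_comm]
    omega
  have t0 := t x hx ux
  have t1 := fun n hn => t _ (hy n hn) ((ux.pow_right n).mul_right uy)
  have g8 : fx ρ {u, x, y} ≤ 8 := fxT h hc hx hy ▸ fx_le ρ (Fx_anti ρ (Set.subset_insert _ _))
  simp only [Finset.sum_range_succ, Finset.sum_range_zero, f, fxT h hc hx hy] at h1
  simp only [Finset.sum_range_succ, Finset.sum_range_zero, f20, Set.singleton_union] at h2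
  have := t1 0 (by norm_num)
  have := t1 1 (by norm_num)
  have := t1 2 (by norm_num)
  have := t1 3 (by norm_num)
  have := t1 4 (by norm_num)
  omega

end Cfsg.Agent.E7V
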