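import Mathlib
import Cfsg.Agent.E7V.Defs
import Cfsg.Agent.E7V.Lin
import Cfsg.Agent.E7V.Mult
import Cfsg.Agent.E7V.Part
import Cfsg.Agent.E7V.Frob
import Cfsg.Agent.E7V.Cfg
import Cfsg.Prelude.Def_Classical

/-!
# `A₁₃` has a fixed vector or a fixed form on the module of dimension `56`
-/

set_option autoImplicit false

namespace Cfsg.Agent.E7V

open Module Matrix Cfsg.Lie

namespace A13

/-- the group `A₁₃` -/
abbrev Al : Type := alternatingGroup (Fin 13)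

/-- an even permutation from its table and the table of its inverse -/
def el (f g : Fin 13 → Fin 13) (h1 : ∀ i, g (f i) = i := by decide +kernel)
    (h2 : ∀ i, f (g i) = i := by decide +kernel)
    (h3 : Equiv.Perm.sign (⟨f, g, h1, h2⟩ : Equiv.Perm (Fin 13)) = 1 := by decide +kernel) : Al :=
  ⟨⟨f, g, h1, h2⟩, Equiv.Perm.mem_alternatingGroup.2 h3⟩

/-- `(0 1 2)` -/
def c1 : Al := el ![1,2,0,3,4,5,6,7,8,9,10,11,12] ![2,0,1,3,4,5,6,7,8,9,10,11,12]
/-- `(3 4 5)` -/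
def c2 : Al := el ![0,1,2,4,5,3,6,7,8,9,10,11,12] ![0,1,2,5,3,4,6,7,8,9,10,11,12]
/-- `(6 7 8)` -/
def c3 : Al := el ![0,1,2,3,4,5,7,8,6,9,10,11,12] ![0,1,2,3,4,5,8,6,7,9,10,11,12]
/-- `(9 10 11)` -/
def c4 : Al := el ![0,1,2,3,4,5,6,7,8,10,11,9,12] ![0,1,2,3,4,5,6,7,8,11,9,10,12]
/-- the four commuting `3`-cycles -/
def cs : Fin 4 → Al := ![c1, c2, c3, c4]
/-- type `3²` -/
def x : Al := el ![1,2,0,4,5,3,6,7,8,9,10,11,12] ![2,0,1,5,3,4,6,7,8,9,10,11,12]
/-- type `3⁴` -/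
def d : Al := el ![1,2,0,4,5,3,7,8,6,10,11,9,12] ![2,0,1,5,3,4,8,6,7,11,9,10,12]
/-- a `13`-cycle normalised by `d` -/
def g : Al := el ![3,6,8,1,9,4,5,12,11,10,2,7,0] ![12,3,10,0,5,6,1,11,2,4,9,8,7]
/-- an involution with `a x` of order `5` -/
def a : Al := el ![6,7,2,8,9,5,0,1,3,4,10,11,12] ![6,7,2,8,9,5,0,1,3,4,10,11,12]
/-- a conjugator -/
def k : Al := el ![0,12,9,3,6,7,5,10,8,4,11,2,1] ![0,12,11,3,9,6,4,5,8,2,7,10,1]
/-- type `3⁴`, `x y` is a `13`-cycle -/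
def y : Al := el ![12,1,4,6,11,10,7,3,5,0,8,2,9] ![9,1,11,7,2,8,3,6,10,12,5,4,0]
/-- `c1 ↦ c2 ↦ c1⁻¹` -/
def uA : Al := el ![3,4,5,0,2,1,6,7,8,9,10,11,12] ![3,5,4,0,1,2,6,7,8,9,10,11,12]
/-- `c1 ↦ c2 ↦ c3 ↦ c4 ↦ c1⁻¹` -/
def uB : Al := el ![3,4,5,6,7,8,9,10,11,0,2,1,12] ![9,11,10,0,1,2,3,4,5,6,7,8,12]
/-- the matrix of `uA` -/
def mA : Matrix (Fin 4) (Fin 4) (ZMod 3) := !![0,2,0,0;1,0,0,0;0,0,1,0;0,0,0,1]
/-- the matrix of `uB` -/
def mB : Matrix (Fin 4) (Fin 4) (ZMod 3) := !![0,0,0,2;1,0,0,0;0,1,0,0;0,0,1,0]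

/-- action of words in `mA`, `mB` on the characters -/
def act (w : List ℕ) (c : Fin 4 → ZMod 3) : Fin 4 → ZMod 3 :=
  w.foldr (fun b c => if b = 1 then ![c 1, 2 * c 0, c 2, c 3] else ![c 1, c 2, c 3, 2 * c 0]) c

/-- weight of a character -/
def wt (c : Fin 4 → ZMod 3) : Fin 5 := ∑ i, if c i = 0 then 0 else 1

/-- a character of given weight -/
def rep (j : Fin 5) : Fin 4 → ZMod 3 := fun i => if i.val < j.val then 1 else 0

theorem orb : ∀ c, ∃ w ∈ [[], [1], [1,1], [1,1,1], [1,0,0], [1,1,1,0], [1,1,1,0,0], [0,1,0,1,0,0], [1,1,0,1],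
    [1,1,0,0], [1,1,0,1,0], [1,1,0,0,0], [0,1,0,1,1], [1,1,0,0,0,0,0], [0,1], [1,1,0], [1,0,1], [0,1,0],
    [0,0,1], [1,0,0,0], [0,1,0,1], [0,1,0,0], [0,1,0,0,0], [0,0,1,1,0], [1,1,0,0,1,1], [0], [1,0,0,0,0],
    [0,1,0,1,0], [1,1,0,1,1,0], [1,1,0,0,0,1], [1,1,0,0,0,0], [1,0,0,0,0,0], [1,1,1,0,0,1,1]],
    act w c = rep (wt c) := by decide +kernel

theorem vmA : ∀ c : Fin 4 → ZMod 3, c ᵥ* mA = ![c 1, 2 * c 0, c 2, c 3] := by decide +kernel

theorem vmB : ∀ c : Fin 4 → ZMod 3, c ᵥ* mB = ![c 1, c 2, c 3, 2 * c 0] := by decide +kernel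

theorem m_rep {m : (Fin 4 → ZMod 3) → ℕ} (hA : ∀ c, m (c ᵥ* mA) = m c) (hB : ∀ c, m (c ᵥ* mB) = m c)
    (c : Fin 4 → ZMod 3) : m c = m (rep (wt c)) := by
  obtain ⟨w, -, hw⟩ := orb c
  rw [← hw]
  clear hw
  induction w with
  | nil => rfl
  | cons b w ih =>
    rw [ih, act, act, List.foldr_cons]
    split_ifs
    · rw [← vmA, hA]
    · rw [← vmB, hB]

theorem sum_wt {m : (Fin 4 → ZMod 3) → ℕ} (hm : ∀ c, m c = m (rep (wt c))) (s : Finset (Fin 4 → ZMod 3))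
    {n : Fin 5 → ℕ} (hn : ∀ j, (s.filter (wt · = j)).card = n j) :
    ∑ c ∈ s, m c = n 0 * m (rep 0) + n 1 * m (rep 1) + n 2 * m (rep 2) + n 3 * m (rep 3) +
      n 4 * m (rep 4) := by
  rw [← Finset.sum_fiberwise s wt, ← Fin.sum_univ_five fun j => n j * m (rep j)]
  refine Finset.sum_congr rfl fun j _ => ?_
  rw [Finset.sum_congr rfl (g := fun _ => m (rep j)) fun c hc => by rw [hm c, (Finset.mem_filter.1 hc).2],
    Finset.sum_const, smul_eq_mul, hn]

theorem gen : Subgroup.closure {x, y} = ⊤ := by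
  set H := Subgroup.closure {x, y}
  have hx : x ∈ H := Subgroup.subset_closure (by simp)
  have hy : y ∈ H := Subgroup.subset_closure (by simp)
  set K := H.map (alternatingGroup (Fin 13)).subtype
  have hK : ∀ z ∈ H, (z : Equiv.Perm (Fin 13)) ∈ K := fun z hz => ⟨z, hz, rfl⟩
  have tr : ∀ i j : Fin 13, ∃ n : Fin 13, (((x * y) ^ n.val : Al) : Equiv.Perm (Fin 13)) i = j := by
    decide +kernel
  have : MulAction.IsPretransitive K (Fin 13) := ⟨fun i j => by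
    obtain ⟨n, hn⟩ := tr i j
    exact ⟨⟨_, hK _ (H.pow_mem (H.mul_mem hx hy) n.val)⟩, hn⟩⟩
  have hp : MulAction.IsPreprimitive K (Fin 13) := .of_prime_card (by simp; norm_num)
  have h3 : (((x * y * x * y⁻¹) ^ 7 : Al) : Equiv.Perm (Fin 13)).IsThreeCycle :=
    card_support_eq_three_iff.1 (by decide +kernel)
  have hle := Equiv.Perm.alternatingGroup_le_of_isPreprimitive_of_isThreeCycle_mem hp h3
    (hK _ (H.pow_mem (H.mul_mem (H.mul_mem (H.mul_mem hx hy) hx) (H.inv_mem hy)) 7))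
  refine eq_top_iff.2 fun z _ => ?_
  obtain ⟨w, hw, e⟩ := hle z.2
  exact (Subtype.ext e : w = z) ▸ hw

variable {ρ : Al →* End (ZMod 2) V56}

theorem fx_d (h : Tab ρ) : fx ρ {d} = 20 := by
  have : Fact (Nat.Prime 13) := ⟨by norm_num⟩
  have og : orderOf g = 13 := orderOf_eq_prime (by decide +kernel) (by decide +kernel)
  have d3 : d ^ 3 = 1 := by decide +kernel
  have od : orderOf d = 3 := orderOf_eq_prime d3 (by decide +kernel)
  have dg : d * g * d⁻¹ = g ^ 3 := by decide +kernel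
  have cj : ∀ z ∈ Subgroup.zpowers g, d * z * d⁻¹ = z ^ 3 := by
    rintro _ ⟨n, rfl⟩
    rw [← conj_zpow, dg, ← zpow_natCast, ← zpow_natCast, ← _root_.zpow_mul, ← _root_.zpow_mul, mul_comm]
  have key := frob ρ (A := Subgroup.zpowers g) (by rw [Nat.card_zpowers, og]; decide)
    (by rintro _ ⟨n, rfl⟩ _ ⟨l, rfl⟩; exact zpow_mul_comm g n l) (q := 3) (by norm_num) (by norm_num) d3
    (fun z hz => by rw [cj z hz]; exact pow_mem hz 3)
    (fun z hz e => by
      rw [cj z hz] at e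
      have h13 : z ^ 13 = 1 := by
        have := congrArg Subtype.val (pow_card_eq_one' (x := (⟨z, hz⟩ : Subgroup.zpowers g)))
        rwa [Nat.card_zpowers, og] at this
      have h2 : z ^ 2 = 1 := by
        rw [pow_succ] at e
        exact mul_eq_right.1 e
      have h14 : z ^ (2 * 6 + 1) = 1 := h13
      rwa [pow_succ, pow_mul, h2, one_pow, one_mul] at h14)
    (W := ⊤) (fun z _ => inv_top ρ z) (inv_top ρ d)
  have e8 : fx ρ (Subgroup.zpowers g) = 8 := by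
    rw [← h.t13 g og, Subgroup.zpowers_eq_closure, fx, Fx_closure]; rfl
  have le : fx ρ (insert d (Subgroup.zpowers g : Set Al)) ≤ fx ρ (Subgroup.zpowers g) :=
    Submodule.finrank_mono (Fx_anti ρ (Set.subset_insert _ _))
  rw [fw_top, fw_top, fw_top, finrank_top, finrank_V56, e8] at key
  have := h.t3 d od
  simp only [List.mem_cons, List.not_mem_nil, or_false] at this
  omega

theorem fx_x (h : Tab ρ) : fx ρ {x} = 32 := by
  have : Fact (Nat.Prime 5) := ⟨by norm_num⟩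
  have x3 : x ^ 3 = 1 := by decide +kernel
  have ox : orderOf x = 3 := orderOf_eq_prime x3 (by decide +kernel)
  have ax : (a * x) ^ 5 = 1 := by decide +kernel
  have h16 := a23 ρ (a := a) (b := x) (n := 5) (by decide) (by decide +kernel) x3 ax (inv_top ρ x)
  rw [fw_top, fw_top, h.t5 _ (orderOf_eq_prime ax (by decide +kernel))] at h16
  obtain ⟨φ, hφ⟩ := exists_phi (n := 3) cs (by unfold Commute SemiconjBy; decide +kernel) (by decide +kernel)
  obtain ⟨m, h56, hS, -, hM⟩ := mult ρ (n := 3) (by decide) φ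
  have hA := hM uA mA !![0,1,0,0;2,0,0,0;0,0,1,0;0,0,0,1] (by decide +kernel)
    (conj_phi φ (by simp only [hφ]; decide +kernel))
  have hB := hM uB mB !![0,1,0,0;0,0,1,0;0,0,0,1;2,0,0,0] (by decide +kernel)
    (conj_phi φ (by simp only [hφ]; decide +kernel))
  have hm := m_rep hA hB
  have ex := hS {![1,1,0,0]}
  have ed := hS {![1,1,1,1]}
  rw [Finset.coe_singleton, Set.image_singleton, hφ] at ex ed
  rw [show (List.ofFn fun i => cs i ^ ((![1,1,0,0] : Fin 4 → ZMod 3) i).val).prod = x by decide +kernel,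
    sum_wt hm _ (n := ![1,4,6,8,8]) (by decide +kernel)] at ex
  rw [show (List.ofFn fun i => cs i ^ ((![1,1,1,1] : Fin 4 → ZMod 3) i).val).prod = d by decide +kernel,
    sum_wt hm _ (n := ![1,0,12,8,6]) (by decide +kernel), fx_d h] at ed
  rw [sum_wt hm _ (n := ![1,8,24,32,16]) (by decide +kernel), finrank_V56] at h56
  have := h.t3 x ox
  simp only [List.mem_cons, List.not_mem_nil, or_false] at this
  simp only [cons_val_zero, cons_val_one, cons_val] at ex ed h56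
  generalize m (rep 0) = m0, m (rep 1) = m1, m (rep 2) = m2, m (rep 3) = m3, m (rep 4) = m4 at ex ed h56
  have : m3 ≤ 1 := by omega
  have : m2 ≤ 2 := by omega
  interval_cases m3 <;> interval_cases m2 <;> omega

end A13

theorem a13 : HasFix (alternatingGroup (Fin 13)) := fun ρ h => by
  have : Fact (Nat.Prime 13) := ⟨by norm_num⟩
  refine scott ρ A13.gen ?_
  rw [finrank_V56, A13.fx_x h, ← fx_isConj ρ (isConj_iff.2 ⟨A13.k, (by decide +kernel : _ = A13.y)⟩ :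
    IsConj A13.d A13.y), A13.fx_d h, h.t13 _ (orderOf_eq_prime (by decide +kernel) (by decide +kernel))]
  norm_num

end Cfsg.Agent.E7V
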