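import Mathlib
import Cfsg.Agent.E7V.Defs
import Cfsg.Prelude.Def_Classical
import Cfsg.Prelude.Def_Sz
import Cfsg.Agent.S0813
import Cfsg.Agent.S2119
import Cfsg.Agent.S2126
import Cfsg.Agent.S1162
import Cfsg.Agent.Cl.LinearBasic

set_option autoImplicit false

namespace Cfsg.Agent.E7V

open Module Matrix Cfsg.Lie

variable {X : Type*} [Group X] {V : Type*} [AddCommGroup V] [Module (ZMod 2) V]

namespace Aut

theorem cen (hs : IsSimpleGroup X) {n : ℕ} (hc : Nat.card X = n) (hn : ¬ n.Prime) : Subgroup.center X = ⊥ :=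
  (inferInstance : (Subgroup.center X).Normal).eq_bot_or_eq_top.resolve_right fun e => by
    have : IsMulCommutative X := ⟨⟨fun a b => Subgroup.mem_center_iff.1 (e ▸ Subgroup.mem_top b) a⟩⟩
    exact hn (hc ▸ Group.is_simple_iff_prime_card.1 hs)

theorem psl {F : Type*} [Field F] [Fintype F] (p f n a b : ℕ) (hp : p.Prime) (hf : 1 ≤ f) (h : Fintype.card F = p ^ f)
    (hn : 2 ≤ n) (h2 : n = 2 → 4 ≤ p ^ f)
    (ha : (if n = 2 then 1 else 2) * f * ((p ^ f) ^ (n * (n - 1) / 2) *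
      ∏ i ∈ Finset.range (n - 1), ((p ^ f) ^ (i + 2) - 1)) = a)
    (hb : (p ^ f) ^ (n * (n - 1) / 2) * (∏ i ∈ Finset.range (n - 1), ((p ^ f) ^ (i + 2) - 1)) /
      Nat.gcd n (p ^ f - 1) = b) (hb' : ¬ b.Prime) :
    Subgroup.center (ProjectiveSpecialLinearGroup (Fin n) F) = ⊥ ∧
      Nat.card (MulAut (ProjectiveSpecialLinearGroup (Fin n) F)) = a ∧
      Nat.card (ProjectiveSpecialLinearGroup (Fin n) F) = b := by
  have := Fact.mk hp
  have : Nonempty (Fin n) := ⟨⟨0, by omega⟩⟩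
  have h' : Nat.card F = p ^ f := Nat.card_eq_fintype_card.trans h
  have hc : Nat.card (ProjectiveSpecialLinearGroup (Fin n) F) = b := by rw [Cl.card_psl, h', Fintype.card_fin, hb]
  exact ⟨cen (Cl.psl_fin_isSimpleGroup hn fun e => h' ▸ h2 e) hc hb',
    by rw [S0813.result p f hf h n hn h2, Cl.card_pgl, Cl.card_sl, h', Fintype.card_fin, ha], hc⟩

end Aut

theorem aut219 {F : Type*} [Field F] [Fintype F] (h : Fintype.card F = 19) :
    Subgroup.center (ProjectiveSpecialLinearGroup (Fin 2) F) = ⊥ ∧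
      Nat.card (MulAut (ProjectiveSpecialLinearGroup (Fin 2) F)) = 6840 ∧
      Nat.card (ProjectiveSpecialLinearGroup (Fin 2) F) = 3420 :=
  Aut.psl 19 1 2 _ _ (by norm_num) le_rfl h le_rfl (by norm_num) (by decide +kernel) (by decide +kernel) (by norm_num)

theorem aut227 {F : Type*} [Field F] [Fintype F] (h : Fintype.card F = 27) :
    Subgroup.center (ProjectiveSpecialLinearGroup (Fin 2) F) = ⊥ ∧
      Nat.card (MulAut (ProjectiveSpecialLinearGroup (Fin 2) F)) = 58968 ∧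
      Nat.card (ProjectiveSpecialLinearGroup (Fin 2) F) = 9828 :=
  Aut.psl 3 3 2 _ _ (by norm_num) (by norm_num) h le_rfl (by norm_num) (by decide +kernel) (by decide +kernel)
    (by norm_num)

theorem aut43 : Subgroup.center (ProjectiveSpecialLinearGroup (Fin 4) (ZMod 3)) = ⊥ ∧
      Nat.card (MulAut (ProjectiveSpecialLinearGroup (Fin 4) (ZMod 3))) = 24261120 ∧
      Nat.card (ProjectiveSpecialLinearGroup (Fin 4) (ZMod 3)) = 6065280 :=
  Aut.psl (F := ZMod 3) 3 1 4 _ _ (by norm_num) le_rfl rfl (by norm_num) (by norm_num) (by decide +kernel)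
    (by decide +kernel) (by norm_num)

theorem aut13 : Subgroup.center (alternatingGroup (Fin 13)) = ⊥ ∧
      Nat.card (MulAut (alternatingGroup (Fin 13))) = 6227020800 ∧
      Nat.card (alternatingGroup (Fin 13)) = 3113510400 := by
  have hc : Nat.card (alternatingGroup (Fin 13)) = 3113510400 := by
    rw [nat_card_alternatingGroup, Nat.card_fin]; rfl
  refine ⟨Aut.cen (alternatingGroup.isSimpleGroup (by simp)) hc (by norm_num), ?_, hc⟩
  rw [← Nat.card_eq_of_bijective _ (S2119.result 13 (by norm_num) (by norm_num)), Nat.card_perm, Nat.card_fin]; rfl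

theorem aut34 {F : Type*} [Field F] [Fintype F] (h : Fintype.card F = 4) :
    Subgroup.center (ProjectiveSpecialLinearGroup (Fin 3) F) = ⊥ ∧
      Nat.card (MulAut (ProjectiveSpecialLinearGroup (Fin 3) F)) = 241920 ∧
      Nat.card (ProjectiveSpecialLinearGroup (Fin 3) F) = 20160 :=
  Aut.psl 2 2 3 _ _ (by norm_num) (by norm_num) h (by norm_num) (by norm_num) (by decide +kernel) (by decide +kernel)
    (by norm_num)

theorem autSz {F : Type*} [Field F] [Fintype F] (h : Fintype.card F = 8) :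
    Subgroup.center (Cfsg.Lie.Sz F 4) = ⊥ ∧ Nat.card (MulAut (Cfsg.Lie.Sz F 4)) = 87360 ∧
      Nat.card (Cfsg.Lie.Sz F 4) = 29120 := by
  have h' : Fintype.card F = 2 ^ (2 * 1 + 1) := h
  have := Chev.Sz.SzF.of_card le_rfl h'
  have hc : Nat.card (Cfsg.Lie.Sz F (2 ^ (1 + 1))) = 29120 := by
    rw [← Nat.card_congr (Chev.Sz.szEquiv F 1).toEquiv, Chev.Sz.card_Sz, Nat.card_eq_fintype_card, h]; rfl
  have hz := Aut.cen (S1162.result le_rfl h') hc (by norm_num)
  refine ⟨hz, ?_, hc⟩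
  have h1 : (Cfsg.Inn (Cfsg.Lie.Sz F (2 ^ (1 + 1)))).index = 2 * 1 + 1 := S2126.result le_rfl h'
  have h2 : Nat.card (Cfsg.Inn (Cfsg.Lie.Sz F (2 ^ (1 + 1)))) = 29120 := by
    refine (Nat.card_congr (MonoidHom.ofInjective (f := MulAut.conj) ?_).toEquiv).symm.trans hc
    refine (injective_iff_map_eq_one _).2 fun a ha => Subgroup.mem_bot.1 (hz ▸ Subgroup.mem_center_iff.2 fun g => ?_)
    exact (mul_inv_eq_iff_eq_mul.1 (DFunLike.congr_fun ha g)).symm
  have h3 := (Cfsg.Inn (Cfsg.Lie.Sz F (2 ^ (1 + 1)))).index_mul_card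
  rw [h1, h2] at h3
  exact h3.symm

end Cfsg.Agent.E7V
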