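import Mathlib
import Cfsg.Agent.E7V.Defs
import Cfsg.Agent.S1054

/-!
# The module of dimension `56` of `E₇(2)`: faithful, without fixed vector or fixed form
-/

set_option autoImplicit false
set_option maxRecDepth 100000

namespace Cfsg.Agent.E7V

open Module Matrix Cfsg.Lie Cfsg.Agent.Chev Cfsg.Agent.Chev.Alc

variable {X : Type*} [Group X] {V : Type*} [AddCommGroup V] [Module (ZMod 2) V]

/-- the matrix of a root element -/
def Rep.ent (r : chevE7.Rt) (i j : Fin 56) : ZMod 2 :=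
  chevE8.xMatR (ZMod 2) ⟨embE7Map r, embE7Map_lt r r.2⟩ (embE7Eps r * 1)
    (.inr ⟨lv7 i, lv7_lt i i.2⟩) (.inr ⟨lv7 j, lv7_lt j j.2⟩)

theorem Rep.mat0_gen (r : chevE7.Rt) (i j : Fin 56) :
    mat0 (chevE7.stProj (ZMod 2) (chevE7.stGen (ZMod 2) r 1)) i j = Rep.ent r i j := by
  rw [mat0_stProj]
  change ((chevE8.stProj (ZMod 2) (ChevalleyDatum.transSt (ZMod 2) embE7_trans (chevE7.stGen (ZMod 2) r 1)) :
    GL chevE8.Idx (ZMod 2)) : Matrix chevE8.Idx chevE8.Idx (ZMod 2)) _ _ = _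
  rw [ChevalleyDatum.transSt_stGen, ChevalleyDatum.stProj_stGen, ChevalleyDatum.coe_XG, ChevalleyDatum.coe_X_eq_xR,
    ChevalleyDatum.xR_of_lt]
  rfl

/-- a root raising or lowering a weight -/
def Rep.tA (i : ℕ) : ℕ × ℕ := [(63, 1), (62, 0), (60, 0), (57, 0), (53, 0), (48, 0), (43, 0), (39, 0), (36, 0),
  (34, 0), (33, 0), (33, 1), (27, 0), (23, 0), (20, 0), (18, 0), (17, 0), (17, 1), (14, 0), (12, 0), (11, 0), (11, 1),
  (9, 0), (8, 0), (8, 1), (7, 0), (7, 1), (7, 2), (5, 0), (4, 0), (4, 1), (3, 0), (3, 1), (3, 2), (2, 0), (2, 1),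
  (2, 2), (2, 3), (1, 0), (1, 1), (1, 2), (1, 3), (1, 4), (1, 6), (0, 0), (0, 1), (0, 2), (0, 3), (0, 4), (0, 5),
  (0, 6), (0, 7), (0, 8), (0, 9), (0, 10), (0, 11)].getD i (0, 0)

/-- a root raising or lowering a weight -/
def Rep.tB (i : ℕ) : ℕ × ℕ := [(0, 44), (0, 45), (0, 46), (0, 47), (0, 48), (0, 49), (0, 50), (0, 51), (0, 52),
  (0, 53), (0, 54), (0, 55), (1, 49), (1, 51), (1, 52), (1, 53), (1, 54), (1, 55), (2, 52), (2, 53), (2, 54), (2, 55),
  (3, 53), (3, 54), (3, 55), (4, 54), (4, 55), (5, 55), (7, 53), (7, 54), (7, 55), (8, 54), (8, 55), (9, 55), (11, 54),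
  (11, 55), (12, 55), (14, 55), (17, 54), (17, 55), (18, 55), (20, 55), (23, 55), (27, 55), (33, 54), (33, 55),
  (34, 55), (36, 55), (39, 55), (43, 55), (48, 55), (53, 55), (57, 55), (60, 55), (62, 55), (63, 54)].getD i (0, 0)

theorem Rep.ltA : ∀ i < 56, (Rep.tA i).1 < chevE7.nroots ∧ (Rep.tA i).2 < 56 := by decide +kernel

theorem Rep.ltB : ∀ i < 56, (Rep.tB i).1 < chevE7.nroots ∧ (Rep.tB i).2 < 56 := by decide +kernel

theorem Rep.rowA : ∀ m j : Fin 56, Rep.ent ⟨_, (Rep.ltA m m.2).1⟩ ⟨_, (Rep.ltA m m.2).2⟩ j =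
    (if (⟨_, (Rep.ltA m m.2).2⟩ : Fin 56) = j then 1 else 0) + if m = j then 1 else 0 := by
  decide +kernel

theorem Rep.colB : ∀ m j : Fin 56, Rep.ent ⟨_, (Rep.ltB m m.2).1⟩ j ⟨_, (Rep.ltB m m.2).2⟩ =
    (if j = (⟨_, (Rep.ltB m m.2).2⟩ : Fin 56) then 1 else 0) + if j = m then 1 else 0 := by
  decide +kernel

theorem Rep.exA (m : Fin 56) : ∃ (g : G0) (n : Fin 56), ∀ j,
    mat0 g n j = (if n = j then 1 else 0) + if m = j then 1 else 0 :=
  ⟨_, _, fun j => (Rep.mat0_gen _ _ j).trans (Rep.rowA m j)⟩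

theorem Rep.exB (m : Fin 56) : ∃ (g : G0) (n : Fin 56), ∀ j,
    mat0 g j n = (if j = n then 1 else 0) + if j = m then 1 else 0 :=
  ⟨_, _, fun j => (Rep.mat0_gen _ j _).trans (Rep.colB m j)⟩

theorem nofix0 : ¬ Fix rho0 := by
  rintro ⟨v, h0, hv⟩
  refine h0 (funext fun m => ?_)
  obtain ⟨g, n, hg⟩ := Rep.exA m
  have h := congrFun (hv g) n
  rw [rho0_apply, mulVec, dotProduct] at h
  simp only [hg, add_mul, Finset.sum_add_distrib, ite_mul, one_mul, zero_mul,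
    Finset.sum_ite_eq, Finset.mem_univ, if_true] at h
  exact add_eq_left.1 h

theorem nocofix0 : ¬ CoFix rho0 := by
  rintro ⟨f, h0, hf⟩
  refine h0 ((Pi.basisFun (ZMod 2) (Fin 56)).ext fun m => ?_)
  obtain ⟨g, n, hg⟩ := Rep.exB m
  have h := hf g (Pi.single n 1)
  have e : rho0 g (Pi.single n 1) = Pi.single n 1 + Pi.single m 1 := by
    funext j
    rw [rho0_apply, mulVec_single_one, Matrix.col_apply, hg, Pi.add_apply, Pi.single_apply, Pi.single_apply]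
  rw [e, map_add, add_eq_left] at h
  simpa using h

theorem inj0 : Function.Injective rho0 := by
  have hs := (S1054.result (F := ZMod 2) chevE7 (by simp)).1
  rw [← MonoidHom.ker_eq_bot_iff]
  refine (hs.eq_bot_or_eq_top_of_normal _ inferInstance).resolve_right fun h => nofix0 ⟨1, one_ne_zero, fun g => ?_⟩
  have : rho0 g = 1 := MonoidHom.mem_ker.1 (h ▸ Subgroup.mem_top g)
  rw [this]; rfl

end Cfsg.Agent.E7V
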