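import Mathlib
import Cfsg.Agent.E7V.Defs
import Cfsg.Agent.E7V.Rep
import Cfsg.Agent.Cl.ClassMat

/-! Fixed spaces of elements of order 3, 5, 9, 13, 15 of `E₇(2)` on the module of dimension 56. -/

set_option autoImplicit false
set_option maxRecDepth 100000

namespace Cfsg.Agent.E7V

open Module Matrix Cfsg.Lie

variable {X : Type*} [Group X] {V : Type*} [AddCommGroup V] [Module (ZMod 2) V]

namespace Kac

open Cfsg.Lie.ChevalleyDatum Chev Chev.Chk Chev.Alc

/-- the weights, doubled, in root coordinates modulo 585 -/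
def tl : List (List ℕ) := [[583, 582, 581, 579, 580, 581, 582], [583, 582, 581, 579, 580, 581, 584], [583, 582, 581, 579, 580, 583,
    584], [583, 582, 581, 579, 582, 583, 584], [583, 582, 581, 581, 582, 583, 584], [583, 582, 583, 581, 582, 583,
    584], [583, 584, 581, 581, 582, 583, 584], [583, 584, 583, 581, 582, 583, 584], [583, 584, 583, 583, 582, 583,
    584], [583, 584, 583, 583, 584, 583, 584], [583, 584, 583, 583, 584, 0, 584], [583, 584, 583, 583, 584, 0, 1],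
    [0, 582, 583, 581, 582, 583, 584], [0, 584, 583, 581, 582, 583, 584], [0, 584, 583, 583, 582, 583, 584], [0,
    584, 583, 583, 584, 583, 584], [0, 584, 583, 583, 584, 0, 584], [0, 584, 583, 583, 584, 0, 1], [0, 584, 0,
    583, 582, 583, 584], [0, 584, 0, 583, 584, 583, 584], [0, 584, 0, 583, 584, 0, 584], [0, 584, 0, 583, 584, 0,
    1], [0, 584, 0, 0, 584, 583, 584], [0, 584, 0, 0, 584, 0, 584], [0, 584, 0, 0, 584, 0, 1], [0, 584, 0, 0, 1,
    0, 584], [0, 584, 0, 0, 1, 0, 1], [0, 584, 0, 0, 1, 2, 1], [0, 1, 0, 0, 584, 583, 584], [0, 1, 0, 0, 584, 0,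
    584], [0, 1, 0, 0, 584, 0, 1], [0, 1, 0, 0, 1, 0, 584], [0, 1, 0, 0, 1, 0, 1], [0, 1, 0, 0, 1, 2, 1], [0, 1,
    0, 2, 1, 0, 584], [0, 1, 0, 2, 1, 0, 1], [0, 1, 0, 2, 1, 2, 1], [0, 1, 0, 2, 3, 2, 1], [0, 1, 2, 2, 1, 0,
    584], [0, 1, 2, 2, 1, 0, 1], [0, 1, 2, 2, 1, 2, 1], [0, 1, 2, 2, 3, 2, 1], [0, 1, 2, 4, 3, 2, 1], [0, 3, 2, 4,
    3, 2, 1], [2, 1, 2, 2, 1, 0, 584], [2, 1, 2, 2, 1, 0, 1], [2, 1, 2, 2, 1, 2, 1], [2, 1, 2, 2, 3, 2, 1], [2, 1,
    2, 4, 3, 2, 1], [2, 1, 4, 4, 3, 2, 1], [2, 3, 2, 4, 3, 2, 1], [2, 3, 4, 4, 3, 2, 1], [2, 3, 4, 6, 3, 2, 1],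
    [2, 3, 4, 6, 5, 2, 1], [2, 3, 4, 6, 5, 4, 1], [2, 3, 4, 6, 5, 4, 3]]

theorem tab (K : Type*) [Field K] : chevE7.TabOK (rep56 K).μ 2 585 tl := by
  refine ⟨rfl, fun a k => ?_⟩
  change _ ∣ _ * chevE8.wt (⟨lv7 a, lv7_lt a a.2⟩ : chevE8.Rt) (Fin.castLE (by decide) k) - _
  rw [wtE8_eq]
  revert a k
  decide +kernel

/-- the algebraic closure -/
abbrev K2 : Type := AlgebraicClosure (ZMod 2)

theorem rep_map {F K : Type*} [Field F] [Field K] (f : F →+* K) (x : chevE7.SteinbergGroup F) :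
    (rep56 K).ρ (chevE7.stMap f x) = ((rep56 F).ρ x).map f := by
  have h : (transSt K embE7_trans).comp (chevE7.stMap f) = (chevE8.stMap f).comp (transSt F embE7_trans) :=
    chevE7.st_hom_ext fun r t => by
      rw [MonoidHom.comp_apply, MonoidHom.comp_apply, stMap_stGen, transSt_stGen, transSt_stGen, stMap_stGen, map_mul,
        map_intCast]
  have h1 : chevE8.adjHom K (transSt K embE7_trans (chevE7.stMap f x)) =
      (chevE8.adjHom F (transSt F embE7_trans x)).map f := by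
    rw [← MonoidHom.comp_apply (transSt K embE7_trans), h, MonoidHom.comp_apply]
    change ((chevE8.stProj K (chevE8.stMap _ _) : GL chevE8.Idx K) : Matrix chevE8.Idx chevE8.Idx K) = _
    rw [stProj_stMap]
    rfl
  change (chevE8.adjHom K (transSt K embE7_trans (chevE7.stMap f x))).submatrix _ _ = _
  rw [h1]
  rfl

theorem rank_count {D : ChevalleyDatum} [D.Good] {K : Type*} [Field K] [DecidableEq K] {N : ℕ} (R : D.WtRep K (Fin N))
    {g : D.SteinbergGroup K} {χ : Multiplicative D.Lat →* Kˣ} (h : IsConj g (D.torC K χ)) :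
    (R.ρ g - 1).rank + (R.ev g).count 1 = N := by
  rw [R.ev_conj h, R.ev_torC]
  obtain ⟨c, hc⟩ := isConj_iff.1 h
  have u : ∀ y, IsUnit (R.ρ y).det := fun y => (isUnit_iff_isUnit_det _).1 ((Group.isUnit y).map R.ρ)
  have e : R.ρ c * (R.ρ g - 1) * R.ρ c⁻¹ = diagonal fun a => (cv χ (R.μ a) : K) - 1 := by
    rw [mul_sub, sub_mul, ← map_mul, ← map_mul, hc, mul_one, ← map_mul, mul_inv_cancel, map_one, R.tor, ← diagonal_one,
      diagonal_sub]
  rw [← rank_mul_eq_right_of_isUnit_det _ _ (u c), ← rank_mul_eq_left_of_isUnit_det _ _ (u c⁻¹), e, rank_diagonal,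
    Multiset.count_map, Fintype.card_subtype]
  have := Finset.card_filter_add_card_filter_not (s := Finset.univ) fun a : Fin N => (cv χ (R.μ a) : K) - 1 ≠ 0
  rw [Finset.card_univ, Fintype.card_fin] at this
  convert this using 2
  rw [Finset.card_def, Finset.filter_val]
  congr 2
  funext a
  rw [not_not, sub_eq_zero]
  exact propext eq_comm

theorem fx_rank (g : G0) : (mat0 g - 1).rank + fx rho0 {g} = 56 := by
  have : Fx rho0 {g} = LinearMap.ker (mat0 g - 1).mulVecLin := by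
    ext v
    rw [mem_Fx_one, rho0_apply, LinearMap.mem_ker, mulVecLin_apply, sub_mulVec, one_mulVec, sub_eq_zero]
  rw [fx, this, Matrix.rank, LinearMap.finrank_range_add_finrank_ker, finrank_V56]

theorem frob (x : chevE7.SteinbergGroup (ZMod 2)) :
    ((rep56 K2).ev (chevE7.stMap (algebraMap _ K2) x)).map (· ^ 2) = (rep56 K2).ev (chevE7.stMap (algebraMap _ K2) x) := by
  have h2 := (IsAlgClosed.splits ((rep56 K2).ρ (chevE7.stMap (algebraMap _ K2) x)).charpoly).roots_map (frobenius K2 2)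
  rw [rep_map, Matrix.charpoly_map, Polynomial.map_map, RingHom.ext_zmod (RingHom.comp _ _) (algebraMap _ K2)] at h2
  rw [WtRep.ev, rep_map, Matrix.charpoly_map]
  exact h2.symm

theorem kac {n : ℕ} (hm : n ∣ 585) {ls : List ℕ} {Q : List ℕ → Bool}
    (hQ : ratChk tl [2, 2, 3, 4, 3, 2, 1] n 2 ls Q = true) {g : G0} (hg : orderOf g = n) (hl : ∀ k ∈ ls, ¬ n ∣ k) :
    ∃ s, Q s = true ∧ ∀ k, fx rho0 {g ^ k} = sumT (ind 0) tl s n k := by
  classical
  obtain ⟨x, rfl⟩ := stProj_bij.2 g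
  rw [orderOf_injective _ stProj_bij.1] at hg
  have hn : 0 < n := Nat.pos_of_dvd_of_pos hm (by norm_num)
  have hp : n.Coprime 2 := (show Nat.Coprime 585 2 by norm_num).coprime_dvd_left hm
  have hx : x ^ n = 1 := hg ▸ pow_orderOf_eq_one x
  obtain ⟨ξ, hξ⟩ := exists_primRoot (ZMod 2) 2 hp
  have hinj := stTor_injective_E7 K2
  obtain ⟨-, -, χ, -, hc⟩ := chevE7.exists_isConj_torC (ZMod 2) hinj 2 x (hg ▸ hp)
  have h3 : ∀ k, IsConj (chevE7.stMap (algebraMap _ K2) (x ^ k)) (chevE7.torC _ χ ^ k) := fun k => by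
    rw [map_pow]; exact hc.pow k
  have hχ : chevE7.torC K2 χ ^ n = 1 := by simpa [hx] using (h3 n).symm
  obtain ⟨s, h4, h5, h6⟩ := (rep56 K2).exists_alc (tab _) hiE7 hn hm hp.symm hξ (χ := χ)
    (chevE7.torC_injective hinj (((chevE7.torC K2).map_pow χ n).trans (hχ.trans (map_one _).symm))) hQ
  refine ⟨s, ?_, fun k => ?_⟩
  · simp only [Bool.or_eq_true, Bool.not_eq_true'] at h4
    rcases h4 with (h4 | h4) | h4
    · have := frob x
      rw [(rep56 K2).ev_conj hc, ← pow_one (chevE7.torC K2 χ), h5] at this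
      rw [sumT_congr hn hξ hw (k := 1) (l := 2) (by
        simpa [← pow_mul, mul_comm, Function.comp_def] using this.symm)] at h4
      simp at h4
    · refine absurd (allL_iff.2 fun k hk => ?_) (ne_true_of_eq_false h4)
      rw [Bool.not_eq_true', Bool.eq_false_iff]
      refine fun h => hl k hk (hg ▸ orderOf_dvd_of_pow_eq_one (chevE7.stMap_injective hinj (algebraMap _ K2) ?_))
      have h7 := center_E7 K2 _ (h6 k fun t ht => Nat.dvd_of_mod_eq_zero (Nat.eq_of_beq_eq_true (allL_iff.1 h t ht)))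
      have h8 : chevE7.torC K2 χ ^ k = 1 := by
        simpa [hp.symm.gcd_eq_one] using pow_gcd_eq_one.2 ⟨h7, show (chevE7.torC K2 χ ^ k) ^ n = 1 by
          rw [← pow_mul, mul_comm, pow_mul, hχ, one_pow]⟩
      simpa [h8] using h3 k
    · exact h4
  · have h7 := rank_count (rep56 K2) (χ := χ ^ k) (((chevE7.torC K2).map_pow χ k).symm ▸ h3 k)
    have h8 := fx_rank (chevE7.stProj _ (x ^ k))
    rw [(rep56 K2).ev_conj (h3 k), h5, ← pow_zero ξ, count_eq_sumT hξ _ _ _ hn, rep_map,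
      ← Matrix.map_one (algebraMap (ZMod 2) K2) (map_zero _) (map_one _), ← Matrix.map_sub _ (map_sub _), Cl.Cls.rank_map] at h7
    rw [mat0_stProj] at h8
    rw [← map_pow]
    omega

theorem c3 : ratChk tl [2, 2, 3, 4, 3, 2, 1] 3 2 [1] (fun s => decide (sumT (ind 0) tl s 3 1 ∈ [2, 14, 20, 32])) = true := by
  decide +kernel

theorem c5 : ratChk tl [2, 2, 3, 4, 3, 2, 1] 5 2 [1] (fun s => decide (sumT (ind 0) tl s 5 1 = 16)) = true := by
  decide +kernel

theorem c13 : ratChk tl [2, 2, 3, 4, 3, 2, 1] 13 2 [1] (fun s => decide (sumT (ind 0) tl s 13 1 = 8)) = true := by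
  decide +kernel

theorem c9 : ratChk tl [2, 2, 3, 4, 3, 2, 1] 9 2 [3] (fun s => decide ((sumT (ind 0) tl s 9 1, sumT (ind 0) tl s 9 3) ∈
    [(4, 14), (12, 32), (0, 2), (0, 20), (6, 20), (8, 20), (12, 20)])) = true := by
  decide +kernel

theorem c15 : ratChk tl [2, 2, 3, 4, 3, 2, 1] 15 2 [3, 5] (fun s => decide ((sumT (ind 0) tl s 15 10, sumT (ind 0) tl s 15 1) ∈
    [(32, 8), (20, 4), (2, 2), (32, 0), (14, 6), (20, 12)])) = true := by
  decide +kernel

theorem fx_pair (ρ : X →* End (ZMod 2) V) {z x : X} {i j : ℕ} (e1 : (z * x) ^ i = z) (e2 : (z * x) ^ j = x) :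
    fx ρ {z, x} = fx ρ {z * x} := by
  have : Subgroup.closure {z, x} = Subgroup.closure {z * x} := by
    refine le_antisymm ((Subgroup.closure_le _).2 (Set.pair_subset ?_ ?_)) ((Subgroup.closure_le _).2 ?_)
    · have := pow_mem (Subgroup.subset_closure (Set.mem_singleton (z * x))) i
      rwa [e1] at this
    · have := pow_mem (Subgroup.subset_closure (Set.mem_singleton (z * x))) j
      rwa [e2] at this
    · rintro _ rfl
      exact mul_mem (Subgroup.subset_closure (by simp)) (Subgroup.subset_closure (by simp))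
  rw [fx, fx, ← Fx_closure, this, Fx_closure]

end Kac

open Kac in
theorem tab0 : Tab rho0 := by
  refine ⟨inj0, fun g hg => ?_, fun g hg => ?_, fun g hg => ?_, fun g hg => ?_, fun z x hz hx hc => ?_⟩
  · obtain ⟨s, h1, h2⟩ := kac (by norm_num) c3 hg (by decide)
    rw [← pow_one g, h2]; exact of_decide_eq_true h1
  · obtain ⟨s, h1, h2⟩ := kac (by norm_num) c5 hg (by decide)
    rw [← pow_one g, h2]; exact of_decide_eq_true h1
  · obtain ⟨s, h1, h2⟩ := kac (by norm_num) c13 hg (by decide)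
    rw [← pow_one g, h2]; exact of_decide_eq_true h1
  · obtain ⟨s, h1, h2⟩ := kac (by norm_num) c9 hg (by decide)
    rw [h2 3, ← pow_one g, h2]; exact of_decide_eq_true h1
  · have hg : orderOf (z * x) = 15 := by
      rw [hc.orderOf_mul_eq_mul_orderOf_of_coprime (by rw [hz, hx]; norm_num), hz, hx]
    obtain ⟨s, h1, h2⟩ := kac (by norm_num) c15 hg (by decide)
    have z3 : z ^ 3 = 1 := hz ▸ pow_orderOf_eq_one z
    have x5 : x ^ 5 = 1 := hx ▸ pow_orderOf_eq_one x
    have e1 : (z * x) ^ 10 = z := by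
      rw [hc.mul_pow, show 10 = 5 * 2 from rfl, pow_mul x, x5, one_pow, mul_one, show 5 * 2 = 3 * 3 + 1 from rfl,
        pow_succ, pow_mul, z3, one_pow, one_mul]
    have e2 : (z * x) ^ 6 = x := by
      rw [hc.mul_pow, show 6 = 3 * 2 from rfl, pow_mul z, z3, one_pow, one_mul, show 3 * 2 = 5 + 1 from rfl,
        pow_succ, x5, one_mul]
    have e3 := fx_pair rho0 e1 e2
    have h3 := h2 1
    have h4 := h2 10
    rw [pow_one] at h3
    rw [e1] at h4
    rw [h4, e3, h3]; exact of_decide_eq_true h1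

end Cfsg.Agent.E7V
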