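import Mathlib
import Cfsg.Agent.E7V.Defs
import Cfsg.Agent.E7V.Rep
import Cfsg.Agent.E7V.Kac
import Cfsg.Prelude.Def_Local
import Cfsg.Agent.GT.FStar
import Cfsg.Agent.Chev.StFin
import Cfsg.Agent.S1054
import Cfsg.Agent.S1064

/-! The counting argument: a fixed vector of `F*(H)` contradicts the maximality of `H`. -/

set_option autoImplicit false

namespace Cfsg.Agent.E7V

open Module Matrix Cfsg.Lie

namespace Cnt

open Subgroup MulAction Pointwise

theorem card_dvd {H : Type*} [Group H] [Finite H] {X : Type*} [Group X] (hc : center X = ⊥)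
    (e : Cfsg.generalizedFittingSubgroup H ≃* X) : Nat.card H ∣ Nat.card (MulAut X) := by
  haveI := GT.genFitting_normal (G := H)
  have inj : Function.Injective
      (MulAut.conjNormal : H →* MulAut (Cfsg.generalizedFittingSubgroup H)) := by
    refine (injective_iff_map_eq_one _).2 fun g hg => ?_
    have c : ∀ k : Cfsg.generalizedFittingSubgroup H, g * k * g⁻¹ = k := fun k =>
      congrArg Subtype.val (DFunLike.congr_fun hg k)
    have m : g ∈ Cfsg.generalizedFittingSubgroup H := GT.centralizer_genFitting_le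
      (mem_centralizer_iff.2 fun k hk => (mul_inv_eq_iff_eq_mul.1 (c ⟨k, hk⟩)).symm)
    have z : e ⟨g, m⟩ ∈ center X := mem_center_iff.2 fun x => by
      obtain ⟨k, rfl⟩ := e.surjective x
      rw [← map_mul, ← map_mul]
      exact congrArg e (Subtype.ext (mul_inv_eq_iff_eq_mul.1 (c k)).symm)
    rw [hc, mem_bot, map_eq_one_iff _ e.injective] at z
    exact congrArg Subtype.val z
  have d := card_dvd_of_injective _ inj
  rwa [Nat.card_congr (MulAut.congr e).toEquiv] at d

theorem vec {H U : Type*} [Group H] [Finite H] [AddCommGroup U] [Finite U] [DistribMulAction H U]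
    (h2 : ∀ v : U, 2 • v = 0) {K : Subgroup H} [hK : K.Normal] {w : U} (w0 : w ≠ 0) (hw : ∀ k ∈ K, k • w = w) :
    ∃ v : U, v ≠ 0 ∧ (stabilizer H v).index ∣ K.index ∧ ¬ 2 ∣ (stabilizer H v).index := by
  let W' : AddSubgroup U :=
    { carrier := {v | ∀ k ∈ K, k • v = v}
      zero_mem' := fun k _ => smul_zero k
      add_mem' := fun ha hb k hk => by rw [smul_add, ha k hk, hb k hk]
      neg_mem' := fun ha k hk => by rw [smul_neg, ha k hk] }
  let W : SubMulAction H U := ⟨W', fun t v hv k hk => by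
    have := hv _ (hK.conj_mem k hk t⁻¹)
    rwa [inv_inv, mul_smul, mul_smul, inv_smul_eq_iff] at this⟩
  obtain ⟨P⟩ : Nonempty (Sylow 2 H) := inferInstance
  have d : 2 ∣ Nat.card W := by
    rw [← addOrderOf_eq_prime (h2 w) w0]
    exact AddSubgroup.addOrderOf_dvd_natCard W' hw
  obtain ⟨v, hv, v0⟩ := P.isPGroup'.exists_fixed_point_of_prime_dvd_card_of_fixed_point W d
    (a := ⟨0, W'.zero_mem⟩) fun p => Subtype.ext (smul_zero _)
  exact ⟨v, fun e => v0 (Subtype.ext e.symm), index_dvd_of_le v.2, fun c => P.not_dvd_index (c.trans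
    (index_dvd_of_le fun p hp => congrArg Subtype.val (hv ⟨p, hp⟩)))⟩

variable {G U : Type*} [Group G] [Finite G]

theorem card_le {Ω : Type*} [Finite Ω] [MulAction G Ω] {H : Subgroup G} (x : Ω) (h : stabilizer G x ≤ H) :
    Nat.card G ≤ Nat.card H * Nat.card Ω := by
  rw [← (stabilizer G x).card_mul_index, index_stabilizer]
  exact Nat.mul_le_mul (card_le_of_le h) (Set.ncard_le_card _)

variable [AddCommGroup U] [Finite U] [DistribMulAction G U] (hf : ∀ v : U, (∀ g : G, g • v = v) → v = 0)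
  {H : Subgroup G} (hH : IsCoatom H)
include hf hH

theorem one {v : U} (v0 : v ≠ 0) (hv : ∀ h : H, h • v = v) : Nat.card G ≤ Nat.card H * Nat.card U :=
  card_le v ((hH.le_iff.1 (fun h hh => hv ⟨h, hh⟩ : H ≤ stabilizer G v)).resolve_left
    fun e : stabilizer G v = ⊤ => v0 (hf v fun g => e.ge (mem_top g))).le

theorem three [IsSimpleGroup G] (h6 : 6 < Nat.card G) {v : U} (v0 : v ≠ 0) (hv : (stabilizer H v).index = 3) :
    Nat.card G ≤ Nat.card H * Nat.card U ^ 2 := by
  classical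
  haveI := Fintype.ofFinite (orbit H v)
  rw [index_stabilizer] at hv
  have e : orbit H v ≃ Fin 3 := Finite.equivFinOfCardEq hv
  by_cases hs : ∑ x : orbit H v, (x : U) = 0
  swap
  · refine (one hf hH hs fun h => ?_).trans (Nat.mul_le_mul_left _ (Nat.le_self_pow two_ne_zero _))
    rw [Finset.smul_sum]
    exact Equiv.sum_comp (toPerm h) (fun x : orbit H v => (x : U))
  rw [← e.symm.sum_comp, Fin.sum_univ_three] at hs
  have hT : stabilizer G (orbit H v) = H := by
    refine (hH.le_iff.1 (fun h hh => smul_orbit (⟨h, hh⟩ : H) v)).resolve_left fun t => ?_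
    have i3 : (stabilizer G v).index ≤ 3 := by
      rw [index_stabilizer, ← hv]
      refine Set.ncard_le_ncard ?_
      rintro _ ⟨g, rfl⟩
      have : g • orbit H v = orbit H v := (t ▸ mem_top g : g ∈ stabilizer G (orbit H v))
      exact this ▸ Set.smul_mem_smul_set (mem_orbit_self v)
    rcases (normalCore_normal (stabilizer G v)).eq_bot_or_eq_top with c | c
    · rw [normalCore_eq_ker, MonoidHom.ker_eq_bot_iff] at c
      have := Nat.card_le_card_of_injective _ c
      rw [Nat.card_perm] at this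
      have h3 := Nat.factorial_le i3
      rw [index] at h3
      exact absurd (this.trans h3) (not_le.2 h6)
    · exact v0 (hf v fun g => normalCore_le _ (c ▸ mem_top g))
  rw [sq, ← Nat.card_prod]
  refine card_le ((e.symm 0 : U), (e.symm 1 : U)) fun g hg => ?_
  obtain ⟨h0, h1⟩ := Prod.ext_iff.1 hg
  change g • _ = _ at h0 h1
  have h2 : g • (e.symm 2 : U) = e.symm 2 := by
    rw [eq_neg_of_add_eq_zero_right hs, smul_neg, smul_add, h0, h1]
  have h3 : ∀ x ∈ orbit H v, g • x = x := fun x hx => by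
    obtain ⟨i, hi⟩ := e.symm.surjective ⟨x, hx⟩
    obtain rfl : (e.symm i : U) = x := congrArg Subtype.val hi
    fin_cases i
    exacts [h0, h1, h2]
  rw [← hT, mem_stabilizer_iff]
  exact (Set.image_congr h3).trans (Set.image_id _)

omit [AddCommGroup U] [Finite U] [DistribMulAction G U] hf hH

theorem bound [IsSimpleGroup G] (h6 : 6 < Nat.card G) [AddCommGroup U] [Module (ZMod 2) U] [Finite U]
    {σ : G →* End (ZMod 2) U} (hf : ¬ Fix σ) (hH : IsCoatom H) {N : Subgroup H} [N.Normal]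
    (hN : Fix (σ.comp (H.subtype.comp N.subtype))) (k : ℕ) :
    (N.index ∣ 2 ^ k → Nat.card G ≤ Nat.card H * Nat.card U) ∧
      (N.index ∣ 3 * 2 ^ k → Nat.card G ≤ Nat.card H * Nat.card U ^ 2) := by
  letI : DistribMulAction G U := DistribMulAction.compHom U σ
  have hf' : ∀ v : U, (∀ g : G, g • v = v) → v = 0 := fun v hv => by_contra fun v0 => hf ⟨v, v0, hv⟩
  obtain ⟨w, w0, hw⟩ := hN
  obtain ⟨v, v0, d1, d2⟩ := vec (H := H) (K := N) (fun u : U => by
    rw [← Nat.cast_smul_eq_nsmul (ZMod 2), show ((2 : ℕ) : ZMod 2) = 0 from rfl, zero_smul]) w0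
    fun n hn => hw ⟨n, hn⟩
  have c := ((Nat.prime_two.coprime_iff_not_dvd.2 d2).pow_left k).symm
  have o : (stabilizer H v).index = 1 → Nat.card G ≤ Nat.card H * Nat.card U := fun i =>
    one hf' hH v0 fun h => (index_eq_one.1 i ▸ mem_top h : h ∈ stabilizer H v)
  refine ⟨fun d => o (c.eq_one_of_dvd (d1.trans d)), fun d => ?_⟩
  rcases (Nat.dvd_prime Nat.prime_three).1 (c.dvd_of_dvd_mul_right (d1.trans d)) with i | i
  · exact (o i).trans (Nat.mul_le_mul_left _ (Nat.le_self_pow two_ne_zero _))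
  · exact three hf' hH h6 v0 i

theorem cofix_iff {X V : Type*} [Group X] [AddCommGroup V] [Module (ZMod 2) V] (ρ : X →* End (ZMod 2) V) :
    CoFix ρ ↔ Fix (Representation.dual ρ) :=
  ⟨fun ⟨f, h0, h⟩ => ⟨f, h0, fun g => LinearMap.ext fun v => h g⁻¹ v⟩,
    fun ⟨f, h0, h⟩ => ⟨f, h0, fun g v => by
      have := LinearMap.congr_fun (h g⁻¹) v
      rwa [Representation.dual_apply, inv_inv] at this⟩⟩

theorem card_G0 : Nat.card G0 = 7997476042075799759100487262680802918400 := by
  have := S1064.result (F := ZMod 2) (ZMod.card 2)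
  norm_num at this
  exact this

theorem gen [IsSimpleGroup G] (h6 : 6 < Nat.card G) {ρ : G →* End (ZMod 2) V56} (ht : Tab ρ) (n1 : ¬ Fix ρ)
    (n2 : ¬ CoFix ρ) {X : Type*} [Group X] (hc : center X = ⊥) {m b : ℕ}
    (ha : Nat.card (MulAut X) ∣ m * Nat.card X) (hb : Nat.card (MulAut X) ≤ b) (hf : HasFix X) (hH : IsCoatom H)
    (e : Cfsg.generalizedFittingSubgroup H ≃* X) (k : ℕ) :
    (m = 2 ^ k → Nat.card G ≤ b * 2 ^ 56) ∧ (m = 3 * 2 ^ k → Nat.card G ≤ b * (2 ^ 56) ^ 2) := by
  haveI := GT.genFitting_normal (G := H)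
  haveI : Finite X := Finite.of_equiv _ e.toEquiv
  haveI : Finite (MulAut X) := Finite.of_injective (fun f : MulAut X => (f : X → X)) DFunLike.coe_injective
  have d := card_dvd hc e
  have hH' : Nat.card H ≤ b := (Nat.le_of_dvd Nat.card_pos d).trans hb
  have d' := d.trans ha
  rw [← Nat.card_congr e.toEquiv, ← (Cfsg.generalizedFittingSubgroup H).index_mul_card] at d'
  replace d' := Nat.dvd_of_mul_dvd_mul_right Nat.card_pos d'
  have c1 : Nat.card V56 = 2 ^ 56 := by simp
  have c2 : Nat.card (Dual (ZMod 2) V56) = 2 ^ 56 := by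
    rw [Module.natCard_eq_pow_finrank (K := ZMod 2), Subspace.dual_finrank_eq, finrank_V56, Nat.card_zmod]
  haveI : Finite (Dual (ZMod 2) V56) := Nat.finite_of_card_ne_zero (by rw [c2]; norm_num)
  have key : (m ∣ 2 ^ k → Nat.card G ≤ Nat.card H * 2 ^ 56) ∧
      (m ∣ 3 * 2 ^ k → Nat.card G ≤ Nat.card H * (2 ^ 56) ^ 2) := by
    rcases hf.congr e.symm _ (ht.comp (f := H.subtype.comp (Cfsg.generalizedFittingSubgroup H).subtype)
      (H.subtype_injective.comp (subtype_injective _))) with h | h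
    · have := bound h6 n1 hH h k
      rw [c1] at this
      exact ⟨fun x => this.1 (d'.trans x), fun x => this.2 (d'.trans x)⟩
    · have := bound h6 (mt (cofix_iff ρ).2 n2) hH ((cofix_iff _).1 h) k
      rw [c2] at this
      exact ⟨fun x => this.1 (d'.trans x), fun x => this.2 (d'.trans x)⟩
  exact ⟨fun x => (key.1 x.dvd).trans (Nat.mul_le_mul_right _ hH'),
    fun x => (key.2 x.dvd).trans (Nat.mul_le_mul_right _ hH')⟩

theorem zero {G : Type*} [Group G] {ρ : G →* End (ZMod 2) V56} (ht : Tab ρ) {X : Type*} [Group X] (hf : NoEmb X)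
    (H : Subgroup G) : IsEmpty (Cfsg.generalizedFittingSubgroup H ≃* X) :=
  ⟨fun e => hf _ (ht.comp (f := H.subtype.comp ((Cfsg.generalizedFittingSubgroup H).subtype.comp
    e.symm.toMonoidHom)) (H.subtype_injective.comp ((subtype_injective _).comp e.symm.injective)))⟩

theorem main {X : Type*} [Group X] (hc : center X = ⊥) {m b : ℕ} (ha : Nat.card (MulAut X) ∣ m * Nat.card X)
    (hb : Nat.card (MulAut X) ≤ b) (hf : HasFix X) {H : Subgroup G0} (hH : IsCoatom H)
    (e : Cfsg.generalizedFittingSubgroup H ≃* X) (k : ℕ) :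
    (m = 2 ^ k → Nat.card G0 ≤ b * 2 ^ 56) ∧ (m = 3 * 2 ^ k → Nat.card G0 ≤ b * (2 ^ 56) ^ 2) :=
  haveI : Finite G0 := chevE7.finite_group (ZMod 2)
  haveI : IsSimpleGroup G0 := (S1054.result chevE7 (by simp)).1
  gen (by rw [card_G0]; norm_num) tab0 nofix0 nocofix0 hc ha hb hf hH e k

end Cnt

variable {X : Type*} [Group X] {V : Type*} [AddCommGroup V] [Module (ZMod 2) V]

theorem red0 (hf : NoEmb X) (H : Subgroup G0) : IsEmpty (Cfsg.generalizedFittingSubgroup H ≃* X) :=
  Cnt.zero tab0 hf H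

theorem red2 (hc : Subgroup.center X = ⊥) {k : ℕ} (ha : Nat.card (MulAut X) ∣ 2 ^ k * Nat.card X)
    (hb : Nat.card (MulAut X) ≤ 10 ^ 22) (hf : HasFix X) (H : Subgroup G0) (hH : IsCoatom H) :
    IsEmpty (Cfsg.generalizedFittingSubgroup H ≃* X) :=
  ⟨fun e => absurd ((Cnt.main hc ha hb hf hH e k).1 rfl) (by rw [Cnt.card_G0]; norm_num)⟩

theorem red3 (hc : Subgroup.center X = ⊥) {k : ℕ} (ha : Nat.card (MulAut X) ∣ 3 * 2 ^ k * Nat.card X)
    (hb : Nat.card (MulAut X) ≤ 1500000) (hf : HasFix X) (H : Subgroup G0) (hH : IsCoatom H) :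
    IsEmpty (Cfsg.generalizedFittingSubgroup H ≃* X) :=
  ⟨fun e => absurd ((Cnt.main hc ha hb hf hH e k).2 rfl) (by rw [Cnt.card_G0]; norm_num)⟩

end Cfsg.Agent.E7V
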