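import Mathlib
import Cfsg.Agent.E7V.Defs
import Cfsg.Agent.E7V.Lin
import Cfsg.Agent.E7V.Mult
import Cfsg.Agent.E7V.Part
import Cfsg.Agent.E7V.Frob
import Cfsg.Agent.E7V.Cfg
import Cfsg.Prelude.Def_Classical
import Cfsg.Prelude.Def_ChevG2
import Cfsg.Agent.Chev.G2Spec

/-! `G₂(3)` has no representation with the table of `E₇(2)`. -/

set_option autoImplicit false

namespace Cfsg.Agent.E7V

open Module Matrix Cfsg.Lie

variable {X : Type*} [Group X] {V : Type*} [AddCommGroup V] [Module (ZMod 2) V]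

namespace G23

variable {ρ : X →* End (ZMod 2) V56}

theorem cj1 (ρ : X →* End (ZMod 2) V) {S : Set X} {u v w : X} (hS : ∀ s ∈ S, u * s = s * u) (h : u * v = w * u) :
    fx ρ (S ∪ {w}) = fx ρ (S ∪ {v}) := by
  rw [← fx_conj ρ u (S ∪ {v}), Set.image_union, Set.image_singleton, h, mul_inv_cancel_right,
    Set.image_congr (g := id) fun s hs => by rw [hS s hs, mul_inv_cancel_right, id], Set.image_id]

theorem inv_c (ρ : X →* End (ZMod 2) V) {S : Set X} {u : X} (hS : ∀ s ∈ S, u * s = s * u) : Inv ρ (Fx ρ S) u :=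
  inv_Fx ρ fun s hs => by
    rw [mul_assoc, ← hS s hs, inv_mul_cancel_left]
    exact Subgroup.subset_closure hs

theorem tri (ρ : X →* End (ZMod 2) V56) {S : Set X} {a v u : X} (ha : ∀ s ∈ S, a * s = s * a)
    (hv : ∀ s ∈ S, v * s = s * v) (hu : ∀ s ∈ S, u * s = s * u) (av : a * v = v * a) (au : a * u = u * a)
    (h : u * v = a * v * u) (a3 : a ^ 3 = 1) (v3 : v ^ 3 = 1) :
    fx ρ S + 3 * fx ρ (S ∪ {a, v}) = fx ρ (S ∪ {a}) + 3 * fx ρ (S ∪ {v}) := by
  have k := part ρ Nat.prime_three (by decide) (inv_c ρ ha) (inv_c ρ hv) (fun _ _ => by rw [av])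
    (fun _ _ => by rw [a3, map_one]; rfl) (fun _ _ => by rw [v3, map_one]; rfl)
  simp only [Finset.sum_range_succ, Finset.sum_range_zero, fw_Fx, pow_zero, one_mul, pow_one] at k
  rw [cj1 ρ hu (v := a * v) (w := a ^ 2 * v) (by rw [← mul_assoc, ← au, mul_assoc, h, pow_two]; simp only [mul_assoc]),
    cj1 ρ hu h] at k
  change fx ρ S + _ = _ at k
  omega

theorem fx_empty (ρ : X →* End (ZMod 2) V56) : fx ρ ∅ = 56 := by
  rw [fx, show Fx ρ ∅ = ⊤ from eq_top_iff.2 fun _ _ _ h => h.elim, finrank_top, finrank_V56]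

theorem core (h : Tab ρ) {a e e' n b c x m : X} (a3 : a ^ 3 = 1) (b3 : b ^ 3 = 1) (e3 : e ^ 3 = 1) (e3' : e' ^ 3 = 1)
    (c3 : c ^ 3 = 1) (x3 : x ^ 3 = 1) (a1 : a ≠ 1) (b1 : b ≠ 1) (ab1 : a ^ 1 * b ≠ 1) (ab2 : a ^ 2 * b ≠ 1)
    (ae : a * e = e * a) (ae' : a * e' = e' * a) (ab : a * b = b * a) (ac : a * c = c * a) (ax : a * x = x * a)
    (bc : b * c = c * b) (bx : b * x = x * b) (be : b * e = e * b) (be' : b * e' = e' * b) (ce : c * e = e * c)
    (ce' : c * e' = e' * c) (r1 : e * e' = a * e' * e) (r2 : x * c = b * c * x) (hn : n * e' = a * n)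
    (hm : m * c = b * m) (ma : m * a = a * m) : False := by
  haveI := Fact.mk Nat.prime_three
  have oa := orderOf_eq_prime a3 a1
  have ob := orderOf_eq_prime b3 b1
  have p1 := ext3 h oa ae ae' r1 e3 e3'
  have p2 := ext3 h ob bx bc r2 x3 c3
  have em : ∀ u : X, ∀ s ∈ (∅ : Set X), u * s = s * u := fun _ _ k => k.elim
  have q1 := tri ρ (em _) (em _) (em _) ae' ae r1 a3 e3'
  have q2 := tri ρ (em _) (em _) (em _) bc bx r2 b3 c3
  rw [← cj1 ρ (em _) hn] at q1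
  rw [← cj1 ρ (em _) hm] at q2
  simp only [Set.empty_union, fx_empty] at q1 q2
  have s1 : ∀ {u : X}, a * u = u * a → ∀ s ∈ ({a} : Set X), u * s = s * u := fun k s hs => by rw [hs, k]
  have s2 : ∀ {u : X}, b * u = u * b → c * u = u * c → ∀ s ∈ ({b, c} : Set X), u * s = s * u := fun k k' s hs => by
    rcases hs with rfl | rfl
    exacts [k.symm, k'.symm]
  have q3 := tri ρ (s1 ab) (s1 ac) (s1 ax) bc bx r2 b3 c3
  rw [← cj1 ρ (s1 ma.symm) hm] at q3
  have q4 := tri ρ (s2 ab.symm ac.symm) (s2 be' ce') (s2 be ce) ae' ae r1 a3 e3'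
  rw [Set.union_comm _ {a}] at q4
  have q5 : fx ρ ({a} ∪ {b, c}) ≤ fx ρ {b, c} := Submodule.finrank_mono (Fx_anti ρ Set.subset_union_right)
  have q6 := part ρ Nat.prime_three (by decide) (inv_top ρ a) (inv_top ρ b) (fun _ _ => by rw [ab])
    (fun _ _ => by rw [a3, map_one]; rfl) (fun _ _ => by rw [b3, map_one]; rfl)
  simp only [Finset.sum_range_succ, Finset.sum_range_zero, fw_top, pow_zero, one_mul, finrank_top, finrank_V56] at q6
  have o : ∀ i, a ^ i * b ≠ 1 → fx ρ {a ^ i * b} ∈ [2, 14, 20, 32] := fun i k => h.t3 _ (orderOf_eq_prime (by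
    rw [(Commute.pow_left ab i).mul_pow, b3, mul_one, ← pow_mul, mul_comm, pow_mul, a3, one_pow]) k)
  have p3 := o 1 ab1
  have p4 := o 2 ab2
  rw [Set.singleton_union (s := {b})] at q3
  simp only [List.mem_cons, List.not_mem_nil, or_false] at p1 p2 p3 p4
  omega

end G23

theorem g23 : NoEmb (chevG2.group (ZMod 3)) := fun ρ h => by
  have r : ∀ i < 12, Chev.G2.rho (ZMod 3) (chevG2.XG (ZMod 3) i 1) = Chev.G2.Y i 1 := fun i k => Chev.G2.rho_XG k 1
  let x : ℕ → chevG2.group (ZMod 3) := fun i => chevG2.XG (ZMod 3) i 1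
  refine G23.core h (a := x 11) (e := x 6) (e' := x 10) (n := x 5 * x 5 * x 6) (b := x 9) (c := x 8) (x := x 7)
    (m := x 4 * x 4 * x 7) ?_ ?_ ?_ ?_ ?_ ?_ ?_ ?_ ?_ ?_ ?_ ?_ ?_ ?_ ?_ ?_ ?_ ?_ ?_ ?_ ?_ ?_ ?_ ?_ ?_ ?_ <;>
  · simp only [x, ne_eq, ← Chev.G2.rho_injective.eq_iff, pow_three', pow_two, pow_one, map_mul, map_one,
      r 4 (by decide), r 5 (by decide), r 6 (by decide), r 7 (by decide), r 8 (by decide), r 9 (by decide),
      r 10 (by decide), r 11 (by decide)]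
    decide +kernel

end Cfsg.Agent.E7V
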