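import Mathlib
import Cfsg.Agent.E7V.Defs
import Cfsg.Agent.E7V.Lin
import Cfsg.Agent.E7V.Mult
import Cfsg.Agent.E7V.Part
import Cfsg.Agent.E7V.Frob
import Cfsg.Agent.E7V.Cfg
import Cfsg.Prelude.Def_Classical
import Cfsg.Prelude.Def_ChevG2
import Cfsg.Agent.E83.Mat
import Cfsg.Agent.Chev.IsogBase

/-!
# `G₂(8)` has no representation with the table: the subgroup `9 × 9`
-/

set_option autoImplicit false
set_option exponentiation.threshold 100000

namespace Cfsg.Agent.E7V

open Module Matrix Cfsg.Lie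

variable {X : Type*} [Group X] {V : Type*} [AddCommGroup V] [Module (ZMod 2) V]

namespace G28

open Cfsg.Agent.Cl Cfsg.Agent.Spor Cfsg.Agent.Spor.PM Cfsg.Agent.E83

/-- characters of `9 × 9` -/
abbrev C : Type := Fin 2 → ZMod 9

/-- the number of the orbit -/
def o (c : C) : Fin 7 := ([0, 1, 1, 2, 1, 1, 2, 1, 1, 3, 1, 4, 3, 4, 5, 3, 5, 1, 3, 5, 1, 3, 4, 5, 3, 1, 4, 6, 5, 4, 2,
  5, 4, 2, 5, 4, 3, 5, 5, 3, 1, 1, 3, 4, 4, 3, 4, 4, 3, 1, 1, 3, 5, 5, 6, 4, 5, 2, 4, 5, 2, 4, 5, 3, 4, 1, 3, 5, 4, 3,
  1, 5, 3, 1, 5, 3, 5, 4, 3, 4, 1] : List (Fin 7)).getD ((c 0).val * 9 + (c 1).val) 0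

/-- representatives of the orbits -/
def rep : Fin 7 → C := ![![0, 0], ![0, 1], ![0, 3], ![1, 0], ![1, 2], ![1, 5], ![3, 0]]

/-- the action of the element of the Weyl group -/
def M : Matrix (Fin 2) (Fin 2) (ZMod 9) := !![4, 6; 4, 4]

theorem reach : ∀ c : C, ∃ i < 6, ∃ j < 3, c = (fun x => 2 • x)^[i] ((fun x => x ᵥ* M)^[j] (rep (o c))) := by
  decide +kernel

theorem sumo (m : C → ℕ) (h1 : ∀ c, m (2 • c) = m c) (h2 : ∀ c, m (c ᵥ* M) = m c) (e : C) (L : Fin 7 → ℕ)
    (hL : ∀ k, (Finset.univ.filter fun c => c ⬝ᵥ e = 0 ∧ o c = k).card = L k) :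
    ∑ c ∈ Finset.univ.filter (fun c => c ⬝ᵥ e = 0), m c = ∑ k, L k * m (rep k) := by
  have h : ∀ c, m c = m (rep (o c)) := fun c => by
    obtain ⟨i, -, j, -, hc⟩ := reach c
    conv_lhs => rw [hc]
    exact (congrFun (Function.iterate_invariant (f := fun x : C => 2 • x) (g := m) (funext h1) i) _).trans
      (congrFun (Function.iterate_invariant (f := fun x : C => x ᵥ* M) (g := m) (funext h2) j) _)
  rw [← Finset.sum_fiberwise _ o]
  refine Finset.sum_congr rfl fun k _ => ?_
  rw [Finset.filter_filter, ← hL, ← smul_eq_mul, ← Finset.sum_const]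
  exact Finset.sum_congr rfl fun c hc => by rw [h, (Finset.mem_filter.1 hc).2.2]

theorem core {a b u : X} (hab : Commute a b) (ha : a ^ 9 = 1) (hb : b ^ 9 = 1) (ha3 : a ^ 3 ≠ 1) (hb3 : b ^ 3 ≠ 1)
    (hua : u * a = a ^ 4 * b ^ 4 * u) (hub : u * b = a ^ 6 * b ^ 4 * u) : NoEmb X := fun ρ hρ => by
  obtain ⟨φ, hφ⟩ := exists_phi (k := 2) (n := 9) ![a, b] (by
    intro i j; fin_cases i <;> fin_cases j
    exacts [Commute.refl _, hab, hab.symm, Commute.refl _]) (by intro i; fin_cases i; exacts [ha, hb])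
  have hφ' : ∀ e : C, φ (.ofAdd e) = a ^ (e 0).val * b ^ (e 1).val := fun e => by simp [hφ]
  have hu : ∀ e, u * φ (.ofAdd e) * u⁻¹ = φ (.ofAdd (M *ᵥ e)) := conj_phi φ fun i => by
    rw [hφ', hφ', mul_inv_eq_iff_eq_mul]
    fin_cases i
    · exact (congrArg (u * ·) (show a ^ 1 * b ^ 0 = a by simp)).trans hua
    · exact (congrArg (u * ·) (show a ^ 0 * b ^ 1 = b by simp)).trans hub
  obtain ⟨m, m0, mS, m2, mu⟩ := mult ρ (n := 9) (by decide) φ
  have mM := mu u M !![4, 3; 5, 4] (by decide +kernel) hu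
  have fe : ∀ (e : C) (L : Fin 7 → ℕ), (∀ k, (Finset.univ.filter fun c => c ⬝ᵥ e = 0 ∧ o c = k).card = L k) →
      fx ρ {φ (.ofAdd e)} = ∑ k, L k * m (rep k) := fun e L hL => by
    rw [← sumo m m2 mM e L hL]
    simpa using mS {e}
  have p3 : ∀ e : C, φ (.ofAdd e) ^ 3 = φ (.ofAdd (3 • e)) := fun e => by rw [← map_pow, ofAdd_nsmul]
  have t9 : ∀ e e' : C, 3 • e = e' → φ (.ofAdd e') ≠ 1 → (fx ρ {φ (.ofAdd e)}, fx ρ {φ (.ofAdd e')}) ∈
      [(4, 14), (12, 32), (0, 2), (0, 20), (6, 20), (8, 20), (12, 20)] := fun e e' h h1 => by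
    subst h
    rw [← p3] at h1 ⊢
    refine hρ.t9 _ (orderOf_eq_prime_pow (p := 3) (n := 1) (by simpa using h1) ?_)
    rw [← map_pow, ← ofAdd_nsmul, show (3 ^ (1 + 1)) • e = 0 from funext fun i => ?_]
    · simp
    · exact (nsmul_eq_mul (3 ^ (1 + 1)) (e i)).trans (zero_mul (e i))
  have n1 : φ (.ofAdd ![0, 3]) ≠ 1 := by rw [hφ']; exact fun h : a ^ 0 * b ^ 3 = 1 => hb3 (by simpa using h)
  have n2 : φ (.ofAdd ![3, 0]) ≠ 1 := by rw [hφ']; exact fun h : a ^ 3 * b ^ 0 = 1 => ha3 (by simpa using h)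
  have n3 : φ (.ofAdd ![3, 6]) ≠ 1 := fun h => n2 (by
    rw [← show M *ᵥ ![3, 6] = ![3, 0] by decide +kernel, ← hu, h]; simp)
  have e0 := sumo m m2 mM 0 ![1, 18, 6, 18, 18, 18, 2] (by decide +kernel)
  have e1 := t9 ![0, 1] _ (by decide +kernel) n1
  have e2 := t9 ![1, 0] _ (by decide +kernel) n2
  have e3 := t9 ![1, 2] _ (by decide +kernel) n3
  have e4 := t9 ![1, 5] _ (by decide +kernel) n3
  rw [fe ![0, 1] ![1, 0, 0, 6, 0, 0, 2] (by decide +kernel), fe ![0, 3] ![1, 0, 6, 18, 0, 0, 2] (by decide +kernel)] at e1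
  rw [fe ![1, 0] ![1, 6, 2, 0, 0, 0, 0] (by decide +kernel), fe ![3, 0] ![1, 6, 6, 0, 6, 6, 2] (by decide +kernel)] at e2
  have f36 := fe ![3, 6] ![1, 6, 6, 0, 6, 6, 2] (by decide +kernel)
  rw [fe ![1, 2] ![1, 0, 2, 0, 6, 0, 0] (by decide +kernel), f36] at e3
  rw [fe ![1, 5] ![1, 0, 2, 0, 0, 6, 0] (by decide +kernel), f36] at e4
  simp only [dotProduct_zero, Finset.filter_true, ← m0, finrank_V56] at e0
  simp only [Fin.sum_univ_seven, Matrix.cons_val, List.mem_cons, Prod.mk.injEq, List.not_mem_nil,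
    or_false] at e0 e1 e2 e3 e4
  omega

/-- the numbering of the coordinates -/
def eps : chevG2.Idx ≃ Fin 14 := finSumFinEquiv (m := 2) (n := 12)

/-- `g` has the matrix with code `A` -/
def R (g : chevG2.group GF8) (A : ℕ) : Prop := chevRep chevG2 GF8 g = matOf gf8 eps A

/-- product of codes -/
noncomputable def mf (A B : ℕ) : ℕ := force A fun a => force B fun b => mm gf8 14 a b

/-- the identity -/
def cI : ℕ := 0x1000000000000000000000000000001000000000000000000000000000001000000000000000000000000000001000000000000000000000000000001000000000000000000000000000001000000000000000000000000000001000000000000000000000000000001000000000000000000000000000001000000000000000000000000000001000000000000000000000000000001000000000000000000000000000001000000000000000000000000000001000000000000000000000000000001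

/-- power of a code -/
noncomputable def pw (A k : ℕ) : ℕ := Nat.rec cI (fun _ ih => mf ih A) k

/-- the code of a root element -/
noncomputable def xc (r : Fin 12) (t : ℕ) : ℕ := mk 14 fun i j =>
  (chevG2.xMat GF8 r (TF.ofCode _ t) (eps.symm (Fin.ofNat 14 i)) (eps.symm (Fin.ofNat 14 j))).code

theorem R.mul {g h : chevG2.group GF8} {A B : ℕ} (a : R g A) (b : R h B) : R (g * h) (mf A B) := by
  rw [R, map_mul, a, b]
  exact (matOf_mm eps (by decide) A B).symm

theorem R.one : R 1 cI := by
  rw [R, map_one]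
  decide +kernel

theorem R.pow {g : chevG2.group GF8} {A : ℕ} (a : R g A) (k : ℕ) : R (g ^ k) (pw A k) := by
  induction k with
  | zero => exact R.one
  | succ k ih => rw [pow_succ]; exact ih.mul a

theorem R.eq {g h : chevG2.group GF8} {A B : ℕ} (a : R g A) (b : R h B) (e : Nat.beq A B = true) : g = h := by
  rw [Nat.eq_of_beq_eq_true e] at a
  exact Subtype.ext (Units.ext (a.trans b.symm))

theorem R.ne {g : chevG2.group GF8} {A : ℕ} (a : R g A) (k : ℕ) (hk : k < 196)
    (e : Nat.beq (gf8.byte A k) (gf8.byte cI k) = false) : g ≠ 1 := by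
  rintro rfl
  have h := congrArg TF.code (congrFun (congrFun (a.symm.trans R.one) (eps.symm ⟨k / 14, by omega⟩))
    (eps.symm ⟨k % 14, by omega⟩))
  simp only [matOf, of_apply, code_byte, Equiv.apply_symm_apply] at h
  rw [show Nat.add (Nat.mul 14 (k / 14)) (k % 14) = k from Nat.div_add_mod k 14] at h
  rw [h, (nbeq_iff _ _).2 rfl] at e
  cases e

theorem Rx (r : Fin 12) (t : ℕ) :
    R (Chev.Isog.xg (D := chevG2) (by simp) GF8 r (TF.ofCode _ t)) (xc r t) := by
  refine (Chev.Isog.coe_xg' (D := chevG2) (by simp) (F := GF8) r (TF.ofCode _ t)).trans ?_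
  exact (matOf_mk (D := gf8) eps (by decide) (fun _ _ => TF.code_lt _) fun i j => by
    rw [Fin.ofNat_val_eq_self, Fin.ofNat_val_eq_self, Equiv.symm_apply_apply, Equiv.symm_apply_apply]).symm

/-- first generator of the torus -/
def cA : ℕ := 0x5000000000000000000000406000003000000000200000000000000000003000000000002000000000000000003000000000002000000000000000001000000000000000000000000000003000000000200000000010000000001000000000000000000000000000001000000000000000001000000000001000000000000000001000000000001000000000000000000010000000001000000010000000000000000000001010000000000000000000000000001000300000000000000000000020201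

/-- second generator of the torus -/
def cB : ℕ := 0x1000000000000000000000000000004010700030000000000000000000505040004000000000000000000030203000200000000000000000000000005000004000000000600000101010001000000000000000000000000000004000107030000000000000001000001000000000100000000000000050005040400000000000000000003000203020000000000000000000100010101000000000000000000000000000001000000000000000000000000000001000000000003000002000000000201

/-- the element of the Weyl group -/
def cU : ℕ := 0x5040305050700010306010100010305010303060101030601010000000000010302000700020606060004070004040000030500030300000504000505060301030701010001040000050000000300000100000000050102030401070304070606000702040407000005040303050005040705040703050204030503060004070001000000030500020000000606000202000007070004040000070603010704040507060205000505000000050000010000000100010504030505010001030001010101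

theorem eA : mf (xc 11 2) (xc 0 1) = cA := Nat.eq_of_beq_eq_true (by decide +kernel)

theorem eB : mf (xc 7 2) (xc 4 1) = cB := Nat.eq_of_beq_eq_true (by decide +kernel)

theorem eU : mf (mf (mf (mf (mf (mf (xc 9 6) (xc 2 3)) (xc 1 4)) (xc 0 5)) (xc 7 2)) (xc 9 6)) (xc 10 7) = cU :=
  Nat.eq_of_beq_eq_true (by decide +kernel)

theorem main : NoEmb (chevG2.group GF8) := by
  have a := eA ▸ (Rx 11 2).mul (Rx 0 1)
  have b := eB ▸ (Rx 7 2).mul (Rx 4 1)
  have u := eU ▸ ((((((Rx 9 6).mul (Rx 2 3)).mul (Rx 1 4)).mul (Rx 0 5)).mul (Rx 7 2)).mul (Rx 9 6)).mul (Rx 10 7)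
  exact core ((a.mul b).eq (b.mul a) (by decide +kernel)) ((a.pow 9).eq R.one (by decide +kernel))
    ((b.pow 9).eq R.one (by decide +kernel)) ((a.pow 3).ne 1 (by decide) (by decide +kernel))
    ((b.pow 3).ne 1 (by decide) (by decide +kernel))
    ((u.mul a).eq (((a.pow 4).mul (b.pow 4)).mul u) (by decide +kernel))
    ((u.mul b).eq (((a.pow 6).mul (b.pow 4)).mul u) (by decide +kernel))

end G28

theorem g28 {F : Type*} [Field F] [Fintype F] (h : Fintype.card F = 8) : NoEmb (chevG2.group F) := by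
  obtain ⟨e⟩ := Cl.nonempty_ringEquiv_GF8 F h
  exact G28.main.of_inj (f := (Chev.fieldEquiv chevG2 e.symm).toMonoidHom) (Chev.fieldEquiv chevG2 e.symm).injective

end Cfsg.Agent.E7V
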