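import Mathlib
import Cfsg.Agent.E7V.Defs
import Cfsg.Agent.E7V.Lin
import Cfsg.Agent.E7V.Mult
import Cfsg.Agent.E7V.Part
import Cfsg.Agent.E7V.Frob
import Cfsg.Agent.E7V.Cfg
import Cfsg.Agent.S5746
import Cfsg.Prelude.Def_Classical
import Cfsg.Prelude.Def_ChevG2
import Cfsg.Prelude.Def_Spor_J2

set_option autoImplicit false

namespace Cfsg.Agent.E7V

open Module Matrix Cfsg.Lie

variable {X : Type*} [Group X] {V : Type*} [AddCommGroup V] [Module (ZMod 2) V]

namespace J2

open Cfsg.Agent.Spor Cfsg.Agent.Spor.NM Cfsg.Agent.Spor.NM.F4x6 Cfsg.Agent.Spor.MJ2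

set_option maxRecDepth 100000
set_option exponentiation.threshold 100000

/-- the words of `x, y, u, a, b, v, w` (letters `0, …, 6`) -/
noncomputable def wd : LT :=
  .node (.node (.node (.leaf [3, 0]) (.leaf [2, 3, 0, 2, 3, 0, 2, 3, 0, 2, 3, 0]))
      (.node (.leaf [1, 3]) (.leaf [3, 0, 2, 3, 2, 0, 3, 0])))
    (.node (.node (.leaf [3, 0, 3, 1, 0, 3, 1, 0]) (.leaf [2, 0]))
      (.leaf [3, 2, 3, 0, 2, 1, 3, 2, 1, 3, 2, 0, 1]))

/-- the codes of the seven elements -/
noncomputable def gc (i : ℕ) : ℕ := evN mul one sc (wd.get i)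

theorem par : M.Par B gc := fun i => lets_s.in_evN (LT.all_get (f := lettersLt 4) (by decide +kernel) i)

theorem weq (v w : List ℕ) :
    evalW par.el v = evalW par.el w ↔ evN mul one gc v = evN mul one gc w := by
  have h0 := fun w : List ℕ => Model.evN_sound (M := M) (gc := gc) (w := w) fun x _ => (par x).1
  have h : ∀ w, ((evalW par.el w : B) : GL6) = M.elt (evN mul one gc w) := fun w =>
    (map_evalW B.subtype par.el w).trans (h0 w).2.symm
  rw [Subtype.ext_iff, h, h]
  exact ⟨M.inj (h0 v).1 (h0 w).1, congrArg _⟩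

theorem core (e : ℕ → X) (he : ∀ v w, evalW e v = evalW e w ↔ evN mul one gc v = evN mul one gc w) :
    NoEmb X := fun ρ h => by
  have ord : ∀ (p : ℕ) (w : List ℕ), p.Prime → evN mul one gc (powW p w) = evN mul one gc [] →
      evN mul one gc w ≠ evN mul one gc [] → orderOf (evalW e w) = p := fun p w hp h1 h2 => by
    have := Fact.mk hp
    refine orderOf_eq_prime ?_ fun h3 => h2 ((he w []).1 h3)
    rw [← evalW_powW]
    exact (he _ []).2 h1
  have hu : orderOf (e 2) = 3 := by
    simpa using ord 3 [2] (by norm_num) (by decide +kernel) (by decide +kernel)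
  have hb : orderOf (e 4) = 3 := by
    simpa using ord 3 [4] (by norm_num) (by decide +kernel) (by decide +kernel)
  have hi : (e 2)⁻¹ = e 2 * e 2 := by
    rw [inv_eq_iff_mul_eq_one]
    simpa using (he [2, 2, 2] []).2 (by decide +kernel)
  have h32 := cfg5 h (x := e 0) (y := e 1) (u := e 2) (a := e 3) (b := e 4) (i := 2) (j := 1) (k := 3) (l := 2)
    (by simpa [Commute, SemiconjBy] using (he [0, 1] [1, 0]).2 (by decide +kernel))
    (by simpa using ord 5 [0] (by norm_num) (by decide +kernel) (by decide +kernel))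
    (fun i hi => by
      have := ord 5 (List.replicate i 0 ++ [1]) (by norm_num)
        ((show ∀ i < 5, evN mul one gc (powW 5 (List.replicate i 0 ++ [1])) = evN mul one gc [] by
          decide +kernel) i hi)
        ((show ∀ i < 5, evN mul one gc (List.replicate i 0 ++ [1]) ≠ evN mul one gc [] by decide +kernel) i hi)
      simpa [evalW] using this)
    hu
    (by simpa [hi, pow_succ, mul_assoc] using (he [2, 0, 2, 2] [0, 0, 1]).2 (by decide +kernel))
    (by simpa [hi, pow_succ, mul_assoc] using (he [2, 1, 2, 2] [0, 0, 0, 1, 1]).2 (by decide +kernel))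
    (by decide)
    (by simpa [pow_succ] using (he [3, 3] []).2 (by decide +kernel))
    hb
    (by simpa using (he [3, 4] [1]).2 (by decide +kernel))
    (by simpa [Commute, SemiconjBy] using (he [0, 4] [4, 0]).2 (by decide +kernel))
    (by
      have h1 : e 2 = (((e 2)⁻¹ * e 4 * e 2) * e 4 * (e 2 * e 4 * (e 2)⁻¹)) ^ 2 * ((e 2)⁻¹ * e 4 * e 2) * e 4 := by
        have := (he [2] [2, 2, 4, 2, 4, 2, 4, 2, 2, 2, 2, 4, 2, 4, 2, 4, 2, 2, 2, 2, 4, 2, 4]).2 (by decide +kernel)
        simp only [evalW_cons, evalW_nil, mul_one] at this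
        simpa only [hi, pow_two, mul_assoc] using this
      have s := fun {t : X} (ht : t ∈ ({e 0, e 1, e 4, e 2 * e 4 * (e 2)⁻¹, (e 2)⁻¹ * e 4 * e 2} : Set X)) =>
        Subgroup.subset_closure ht
      have m1 := s (t := e 4) (by simp)
      have m2 := s (t := e 2 * e 4 * (e 2)⁻¹) (by simp)
      have m3 := s (t := (e 2)⁻¹ * e 4 * e 2) (by simp)
      have := mul_mem (mul_mem (pow_mem (mul_mem (mul_mem m3 m1) m2) 2) m3) m1
      rwa [← h1] at this)
  have h20 := ext3 h (b := e 4) (v := e 5) (w := e 6) hb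
    (by simpa [Commute, SemiconjBy] using (he [4, 5] [5, 4]).2 (by decide +kernel))
    (by simpa [Commute, SemiconjBy] using (he [4, 6] [6, 4]).2 (by decide +kernel))
    (by simpa [mul_assoc] using (he [5, 6] [4, 6, 5]).2 (by decide +kernel))
    (by simpa [pow_succ, mul_assoc] using (he [5, 5, 5] []).2 (by decide +kernel))
    (by simpa [pow_succ, mul_assoc] using (he [6, 6, 6] []).2 (by decide +kernel))
  rw [h32] at h20
  simp at h20

end J2

theorem j2 : NoEmb Cfsg.Spor.J2 :=
  (J2.core _ J2.weq).of_inj (f := Cfsg.Agent.Spor.MJ2.eJ.symm.toMonoidHom) Cfsg.Agent.Spor.MJ2.eJ.symm.injective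

theorem g24 {F : Type*} [Field F] [Fintype F] (h : Fintype.card F = 4) : NoEmb (chevG2.group F) := by
  obtain ⟨H, -, ⟨e⟩, -⟩ := Cfsg.Agent.S5746.result h
  exact j2.of_inj (f := H.subtype.comp e.symm.toMonoidHom) (H.subtype_injective.comp e.symm.injective)

end Cfsg.Agent.E7V
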