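import Mathlib
import Cfsg.Agent.E7V.Defs
import Cfsg.Agent.E7V.Lin
import Cfsg.Agent.GT.QuadSL2
import Cfsg.Agent.Cl.Transport
import Cfsg.Prelude.Def_Classical

/-! `L₂(19)` is `(2,5,5)`-generated. -/

set_option autoImplicit false

namespace Cfsg.Agent.E7V

open Module Matrix Cfsg.Lie

variable {X : Type*} [Group X] {V : Type*} [AddCommGroup V] [Module (ZMod 2) V]

namespace L219

/-- an element of order four -/
def A : SpecialLinearGroup (Fin 2) (ZMod 19) := ⟨!![0, 18; 1, 0], by rw [det_fin_two_of]; decide⟩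

/-- an element of order five -/
def B : SpecialLinearGroup (Fin 2) (ZMod 19) := ⟨!![2, 10; 6, 2], by rw [det_fin_two_of]; decide⟩

theorem up : GT.slUp 1 = A * B * B * B * A * B * B * B * A * B * B * B * A := by decide +kernel
theorem lo : GT.slLo 1 = A * A * B * B * A * B * B * A * B * B := by decide +kernel
theorem a2 : A ^ 2 = -1 := by decide +kernel
theorem b5 : B ^ 5 = 1 := by decide +kernel
theorem ab5 : (A * B) ^ 5 = 1 := by decide +kernel
theorem nb : A * B ≠ B * A := by decide +kernel

theorem gen : Subgroup.closure {A, B} = ⊤ := by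
  have : Fact (Nat.Prime 19) := ⟨by norm_num⟩
  have a : A ∈ Subgroup.closure {A, B} := Subgroup.subset_closure (by simp)
  have b : B ∈ Subgroup.closure {A, B} := Subgroup.subset_closure (by simp)
  have h1 : GT.slUp 1 ∈ Subgroup.closure {A, B} := by rw [up]; repeat (first | assumption | refine mul_mem ?_ ?_)
  have h2 : GT.slLo 1 ∈ Subgroup.closure {A, B} := by rw [lo]; repeat (first | assumption | refine mul_mem ?_ ?_)
  have k : ∀ n : ℕ, GT.slUp (n : ZMod 19) ∈ Subgroup.closure {A, B} ∧ GT.slLo (n : ZMod 19) ∈ Subgroup.closure {A, B} :=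
    fun n => by
      induction n with
      | zero => rw [Nat.cast_zero, GT.slUp_zero, GT.slLo_zero]; exact ⟨one_mem _, one_mem _⟩
      | succ n ih => rw [Nat.cast_succ, GT.slUp_add, GT.slLo_add]; exact ⟨mul_mem ih.1 h1, mul_mem ih.2 h2⟩
  exact GT.eq_top_of_slUp_slLo_mem _ (fun t => ZMod.natCast_zmod_val t ▸ (k t.val).1)
    fun t => ZMod.natCast_zmod_val t ▸ (k t.val).2

theorem main : HasFix (ProjectiveSpecialLinearGroup (Fin 2) (ZMod 19)) := by
  have : Fact (Nat.Prime 5) := ⟨by norm_num⟩
  let π := QuotientGroup.mk' (Subgroup.center (SpecialLinearGroup (Fin 2) (ZMod 19)))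
  have k : ∀ g, π g = 1 ↔ g ∈ Subgroup.center _ := fun g => QuotientGroup.eq_one_iff g
  refine f255 (a := π A) (b := π B) ?_ ?_ (orderOf_eq_prime (by rw [← map_pow, b5, map_one]) fun e => ?_)
    (orderOf_eq_prime (by rw [← map_mul, ← map_pow, ab5, map_one]) fun e => ?_)
  · rw [← Set.image_pair, ← MonoidHom.map_closure, gen]
    exact Subgroup.map_top_of_surjective _ (QuotientGroup.mk'_surjective _)
  · rw [← map_pow, a2, k]
    exact Subgroup.mem_center_iff.2 fun g => by simp
  · exact nb (Subgroup.mem_center_iff.1 ((k B).1 e) A)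
  · rw [← map_mul, k] at e
    exact nb (mul_left_cancel (a := A) (by rw [Subgroup.mem_center_iff.1 e A, mul_assoc]))

end L219

theorem l219 {F : Type*} [Field F] [Fintype F] (h : Fintype.card F = 19) :
    HasFix (ProjectiveSpecialLinearGroup (Fin 2) F) :=
  have : Fact (Nat.Prime 19) := ⟨by norm_num⟩
  L219.main.congr (Cl.pslMapEquiv _ (FiniteField.ringEquivOfCardEq (by rw [h, ZMod.card])))

end Cfsg.Agent.E7V
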