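import Mathlib
import Cfsg.Agent.E7V.Defs
import Cfsg.Agent.E7V.Lin
import Cfsg.Agent.E7V.Mult
import Cfsg.Agent.E7V.Part
import Cfsg.Agent.E7V.Frob
import Cfsg.Agent.E7V.Cfg
import Cfsg.Agent.GT.QuadSL2
import Cfsg.Prelude.Def_Classical

/-! # `L₂(27)` on the module of dimension `56` -/

set_option autoImplicit false

namespace Cfsg.Agent.E7V

open Module Matrix Cfsg.Lie

variable {X : Type*} [Group X] {V : Type*} [AddCommGroup V] [Module (ZMod 2) V]

namespace L227

variable {F : Type*} [Field F] [Fintype F] {ρ : X →* End (ZMod 2) V56}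

theorem four (hF : Fintype.card F = 27) (h : Tab ρ) {u : F → X} (hu : ∀ a b, u (a + b) = u a * u b)
    (h1 : ∀ a, u a = 1 → a = 0) (hc : ∀ a b, a ≠ 0 → IsConj (u b) (u (a ^ 2 * b))) :
    fx ρ (Set.range u) = 4 := by
  have : Fact (Nat.Prime 3) := ⟨Nat.prime_three⟩
  have : CharP F 3 := charP_of_card_eq_prime_pow (f := 3) hF
  let _ : Algebra (ZMod 3) F := ZMod.algebra F 3
  have h3 : finrank (ZMod 3) F = 3 := by
    have := Module.card_eq_pow_finrank (K := ZMod 3) (V := F)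
    rw [hF, ZMod.card] at this
    exact (Nat.pow_right_injective (show 2 ≤ 3 by omega) (show 3 ^ 3 = _ from this)).symm
  let B := Module.finBasisOfFinrankEq (ZMod 3) F h3
  have u0 : u 0 = 1 := by simpa using hu 0 0
  have un : ∀ (n : ℕ) a, u (n • a) = u a ^ n := fun n a => by
    induction n with
    | zero => simp [u0]
    | succ n ih => rw [succ_nsmul, hu, ih, pow_succ]
  have u3 : ∀ a, u a ^ 3 = 1 := fun a => by
    rw [← un, nsmul_eq_mul, CharP.cast_eq_zero, zero_mul, u0]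
  have uc : ∀ a b, u a * u b = u b * u a := fun a b => by rw [← hu, ← hu, add_comm]
  have hneg : ∀ a, fx ρ {u (-a)} = fx ρ {u a} := fun a => by
    have e : u (-a) = (u a)⁻¹ := eq_inv_of_mul_eq_one_left (by rw [← hu, neg_add_cancel, u0])
    rw [fx, fx, ← Fx_closure, ← Fx_closure ρ {u a}, e, ← Subgroup.zpowers_eq_closure,
      ← Subgroup.zpowers_eq_closure, Subgroup.zpowers_inv]
  have hsq : ∀ a : F, a ^ 13 = 1 → fx ρ {u a} = fx ρ {u 1} := fun a ha => by
    have h0 : a ≠ 0 := by rintro rfl; simp at ha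
    rw [fx_isConj ρ (hc (a ^ 7) 1 (pow_ne_zero _ h0)),
      show (a ^ 7) ^ 2 * 1 = a by linear_combination a * ha]
  have hn : ∀ a : F, a ≠ 0 → fx ρ {u a} = fx ρ {u 1} := fun a ha => by
    have e := FiniteField.pow_card_sub_one_eq_one a ha
    rw [hF] at e
    rcases sq_eq_one_iff.1 (show (a ^ 13) ^ 2 = 1 by rw [← pow_mul]; exact e) with e | e
    · exact hsq a e
    · rw [← hneg]
      exact hsq _ (by linear_combination -e)
  have t := h.t3 (u 1) (orderOf_eq_prime (u3 1) fun e => one_ne_zero (h1 1 e))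
  have pair : ∀ x y : F, x ≠ 0 → (∀ i : ℕ, i • x + y ≠ 0) →
      56 + 3 * fx ρ {u x, u y} = 4 * fx ρ {u 1} := fun x y hx hy => by
    have := part ρ Nat.prime_three (by omega) (inv_top ρ (u x)) (inv_top ρ (u y))
      (fun v _ => by rw [uc]) (fun v _ => by simp [u3]) (fun v _ => by simp [u3])
    simp only [fw_top, finrank_top, finrank_V56, ← un, ← hu, hn _ hx, hn _ (hy _), Finset.sum_const,
      Finset.card_range, smul_eq_mul] at this
    omega
  have b0 : B 0 ≠ 0 := B.ne_zero 0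
  have b1 : ∀ i : ℕ, i • B 0 + B 1 ≠ 0 := fun i e => by
    simpa [-nsmul_eq_mul] using congrArg (B.repr · 1) e
  have b2 : ∀ i j : ℕ, i • B 0 + (j • B 1 + B 2) ≠ 0 := fun i j e => by
    simpa [-nsmul_eq_mul] using congrArg (B.repr · 2) e
  have hi : ∀ a, Inv ρ (Fx ρ {u (B 0)}) (u a) := fun a => inv_Fx ρ fun s hs => by
    rw [hs, mul_assoc, uc, inv_mul_cancel_left]
    exact Subgroup.subset_closure rfl
  have := part ρ Nat.prime_three (by omega) (hi (B 1)) (hi (B 2))
    (fun v _ => by rw [uc]) (fun v _ => by simp [u3]) (fun v _ => by simp [u3])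
  have p1 := pair _ _ b0 b1
  have p2 := pair _ _ b0 (b2 · 0)
  have p3 := pair _ _ b0 (b2 · 1)
  have p4 := pair _ _ b0 (b2 · 2)
  simp only [fw_Fx, ← un, ← hu, Set.singleton_union, Finset.sum_range_succ, Finset.sum_range_zero] at this
  have e : fx ρ (Set.range u) = fx ρ {u (B 0), u (B 1), u (B 2)} := by
    refine congrArg (fun S : Submodule (ZMod 2) V56 => finrank (ZMod 2) S) (le_antisymm
      (Fx_anti ρ (by rintro _ (rfl | rfl | rfl) <;> exact ⟨_, rfl⟩)) ?_)
    rw [← Fx_closure]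
    refine Fx_anti ρ ?_
    rintro _ ⟨x, rfl⟩
    have e : ∀ (c : ZMod 3) (y : F), c • y = c.val • y := fun c y => by
      rw [← Nat.cast_smul_eq_nsmul (ZMod 3), ZMod.natCast_zmod_val]
    rw [← B.sum_repr x, Fin.sum_univ_three, e, e, e, hu, hu, un, un, un]
    exact mul_mem (mul_mem (pow_mem (Subgroup.subset_closure (by simp)) _)
      (pow_mem (Subgroup.subset_closure (by simp)) _)) (pow_mem (Subgroup.subset_closure (by simp)) _)
  have e' : finrank (ZMod 2) (Fx ρ {u (B 0)}) = fx ρ {u 1} := hn _ b0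
  simp only [List.mem_cons, List.not_mem_nil, or_false] at t
  omega

theorem core (hF : Fintype.card F = 27) (h : Tab ρ) {u : F → X} {d : Fˣ → X} {t : X}
    (hu : ∀ a b, u (a + b) = u a * u b) (h1 : ∀ a, u a = 1 → a = 0)
    (hd : ∀ a b, d a * u b * (d a)⁻¹ = u (a ^ 2 * b)) (d13 : ∀ a, d a ^ 13 = 1) (tt : t * t = 1)
    (td : ∀ a, d a * t * d a = t)
    (rel : ∀ a : Fˣ, t * u a * t = u (-(a : F)⁻¹) * t * d a * u (-(a : F)⁻¹))
    (gen : ∀ H : Subgroup X, (∀ a, u a ∈ H) → (∀ a, t * u a * t⁻¹ ∈ H) → H = ⊤) :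
    Fix ρ ∨ CoFix ρ := by
  classical
  have : Finite (End (ZMod 2) V56) := Finite.of_injective _ DFunLike.coe_injective
  have : Finite X := Finite.of_injective _ h.inj
  by_contra! hno
  have u0 : u 0 = 1 := by simpa using hu 0 0
  have f4 : finrank (ZMod 2) (Fx ρ (Set.range u)) = 4 := four hF h hu h1 fun a b ha =>
    isConj_iff.2 ⟨_, hd (Units.mk0 a ha) b⟩
  set W := Fx ρ (Set.range u)
  have mm : ∀ a b v, ρ (a * b) v = ρ a (ρ b v) := fun a b v => by rw [map_mul, End.mul_apply]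
  have uW : ∀ a, ∀ v ∈ W, ρ (u a) v = v := fun a v hv => hv _ ⟨a, rfl⟩
  have dW : ∀ a, ∀ v ∈ W, ρ (d a) v = v := fun a v hv => mem_Fx_one.1 (triv13 ρ (d13 a) (inv_Fx ρ (by
    rintro _ ⟨b, rfl⟩
    refine Subgroup.subset_closure ⟨(a⁻¹ : Fˣ) ^ 2 * b, ?_⟩
    have := hd a ((a⁻¹ : Fˣ) ^ 2 * b)
    rw [show (a : F) ^ 2 * ((a⁻¹ : Fˣ) ^ 2 * b) = b by simp] at this
    rw [← this]
    group)) (f4.trans_lt (by omega)) hv)
  have ttv : ∀ v, ρ t (ρ t v) = v := fun v => by rw [← mm, tt]; simp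
  have key : ∀ a : F, a ≠ 0 → ∀ v ∈ W, ρ t (ρ (u a) (ρ t v)) = ρ (u (-a⁻¹)) (ρ t v) :=
    fun a ha v hv => by
      have := rel (Units.mk0 a ha)
      rw [Units.val_mk0] at this
      rw [← mm, ← mm, this, mm, mm, uW _ v hv, dW _ v hv, mm]
  have two : ∀ v : V56, v + v = 0 := fun v => CharTwo.add_self_eq_zero v
  have nofix : ∀ v ∈ W, ρ t v = v → v = 0 := fun v hv ht => by
    by_contra h0
    let H : Subgroup X := Subgroup.closure {g | ρ g v = v}
    have hH : v ∈ Fx ρ H := (Fx_closure ρ _).ge fun g hg => hg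
    have ht' : t ∈ H := Subgroup.subset_closure ht
    have hu' : ∀ a, u a ∈ H := fun a => Subgroup.subset_closure (uW a v hv)
    rw [gen H hu' fun a => mul_mem (mul_mem ht' (hu' a)) (inv_mem ht')] at hH
    exact hno.1 ⟨v, h0, fun g => hH g trivial⟩
  let e : End (ZMod 2) V56 := ∑ a : F, ρ (u a)
  have ee : ∀ v, e v = ∑ a : F, ρ (u a) v := fun v => LinearMap.sum_apply _ _ _
  have ue : ∀ b v, ρ (u b) (e v) = e v := fun b v => by
    rw [ee, map_sum]
    exact Fintype.sum_equiv (Equiv.addLeft b) _ _ fun a => by simp [hu]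
  have eu : ∀ b v, e (ρ (u b) v) = e v := fun b v => by
    rw [ee, ee]
    exact Fintype.sum_equiv (Equiv.addRight b) _ _ fun a => by simp [hu]
  have eW : ∀ v ∈ W, e v = v := fun v hv => by
    rw [ee, Finset.sum_congr rfl fun a _ => uW a v hv, Finset.sum_const, Finset.card_univ, hF,
      show 27 = 13 * 2 + 1 from rfl, succ_nsmul, mul_nsmul, two_nsmul, two, zero_add]
  have et : ∀ v ∈ W, e (ρ t v) = v := fun v hv => by
    have := nofix (v + e (ρ t v)) (W.add_mem hv (by rintro _ ⟨b, rfl⟩; exact ue b _)) (by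
      rw [map_add, ee, map_sum, ← Finset.add_sum_erase _ _ (Finset.mem_univ (0 : F)),
        ← Finset.add_sum_erase _ _ (Finset.mem_univ (0 : F)), u0, map_one, End.one_apply, ttv,
        add_left_comm]
      congr 2
      refine Finset.sum_bij' (fun a _ => -a⁻¹) (fun a _ => -a⁻¹) (by simp) (by simp) (by simp)
        (by simp) fun a ha => key a (Finset.ne_of_mem_erase ha) v hv)
    rw [← two v] at this
    exact add_left_cancel this
  let S : Submodule (ZMod 2) V56 := Submodule.span _ {x | ∃ a, ∃ v ∈ W, x = ρ (u a) (ρ t v) + v}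
  have mS : ∀ a, ∀ v ∈ W, ρ (u a) (ρ t v) + v ∈ S := fun a v hv => Submodule.subset_span ⟨a, v, hv, rfl⟩
  have mS0 : ∀ v ∈ W, ρ t v + v ∈ S := fun v hv => by simpa [u0] using mS 0 v hv
  have iS : ∀ g, (∀ a, ∀ v ∈ W, ρ g (ρ (u a) (ρ t v) + v) ∈ S) → Inv ρ S g := fun g hg =>
    (Submodule.span_le (p := S.comap (ρ g))).2 (by rintro _ ⟨a, v, hv, rfl⟩; exact hg a v hv)
  have uS : ∀ b, Inv ρ S (u b) := fun b => iS _ fun a v hv => by
    rw [map_add, ← mm, ← hu, uW b v hv]
    exact mS _ v hv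
  have tS : Inv ρ S t := iS _ fun a v hv => by
    rw [map_add]
    by_cases ha : a = 0
    · rw [ha, u0, map_one, End.one_apply, ttv, add_comm]
      exact mS0 v hv
    · have := S.add_mem (mS (-a⁻¹) v hv) (mS0 v hv)
      rwa [add_add_add_comm, two, add_zero, ← key a ha v hv] at this
  have dt : ∀ a, ∀ v ∈ W, ρ (d a) (ρ t v) = ρ t v := fun a v hv => by
    conv_lhs => rw [← dW a v hv]
    rw [← mm, ← mm, td]
  have dS : ∀ c, Inv ρ S (d c) := fun c => iS _ fun a v hv => by
    rw [map_add, ← mm, dW c v hv, show d c * u a = u (c ^ 2 * a) * d c by rw [← hd]; group, mm, dt c v hv]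
    exact mS _ v hv
  have Se : S ≤ LinearMap.ker e := Submodule.span_le.2 (by
    rintro _ ⟨a, v, hv, rfl⟩
    simp [eu, et v hv, eW v hv, two])
  obtain ⟨c, hc⟩ : ∃ c : Fˣ, (c : F) ^ 2 ≠ 1 := by
    obtain ⟨c, hc⟩ := IsCyclic.exists_ofOrder_eq_natCard (α := Fˣ)
    rw [Nat.card_units, Nat.card_eq_fintype_card, hF] at hc
    refine ⟨c, fun e => ?_⟩
    have := orderOf_dvd_of_pow_eq_one (show c ^ 2 = 1 from Units.ext (by simpa using e))
    rw [hc] at this
    omega
  let U : Multiplicative F →* X := MonoidHom.mk' (fun a => u a.toAdd) fun a b => hu _ _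
  have hU : (U.range : Set X) = Set.range u := by
    ext x
    exact ⟨fun ⟨a, ha⟩ => ⟨_, ha⟩, fun ⟨a, ha⟩ => ⟨.ofAdd a, ha⟩⟩
  have fr := frob ρ (A := U.range) (q := 13) (u := d c) (W := S)
    (Odd.of_dvd_nat (show Odd (Nat.card (Multiplicative F)) by
      rw [Nat.card_congr Multiplicative.toAdd, Nat.card_eq_fintype_card, hF]; decide)
      (Subgroup.card_range_dvd U))
    (by rintro _ ⟨a, rfl⟩ _ ⟨b, rfl⟩; rw [← map_mul, ← map_mul, mul_comm])
    (by norm_num) (by omega) (d13 c) (by rintro _ ⟨a, rfl⟩; exact ⟨.ofAdd _, (hd c _).symm⟩)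
    (by
      rintro _ ⟨a, rfl⟩ ha
      have h2 : u (c ^ 2 * a.toAdd) = u a.toAdd := (hd c _).symm.trans ha
      have h3 := h1 (c ^ 2 * a.toAdd - a.toAdd) (mul_right_cancel (b := u a.toAdd)
        (by rw [← hu, sub_add_cancel, h2, one_mul]))
      rw [← sub_one_mul, mul_eq_zero, sub_eq_zero] at h3
      exact (congrArg u (h3.resolve_left hc)).trans u0)
    (by rintro _ ⟨a, rfl⟩; exact uS _) (dS c)
  have SW : S ⊓ W = ⊥ := eq_bot_iff.2 fun v hv => (eW v hv.2).symm.trans (Se hv.1)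
  have z1 : fw ρ S U.range = 0 := by rw [fw, hU, SW, finrank_bot]
  have z2 : fw ρ S (insert (d c) U.range) = 0 := by
    rw [fw, Fx_insert, hU, inf_left_comm, SW, inf_bot_eq, finrank_bot]
  have z3 : 4 ≤ fw ρ S {d c} := by
    rw [← f4]
    refine LinearMap.finrank_le_finrank_of_injective (f := LinearMap.codRestrict _
      ((ρ t + 1) ∘ₗ W.subtype) fun v => ⟨mS0 v v.2, mem_Fx_one.2 ?_⟩)
      ((injective_iff_map_eq_zero _).2 fun v hv => Subtype.ext (nofix v v.2 ?_))
    · change ρ (d c) (ρ t v + v) = ρ t v + v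
      rw [map_add, dt c v v.2, dW c v v.2]
    · have : ρ t v + v = 0 := congrArg Subtype.val hv
      rw [← two v] at this
      exact add_right_cancel this
  have z4 := LinearMap.finrank_range_add_finrank_ker e
  have z5 : finrank (ZMod 2) W ≤ finrank (ZMod 2) (LinearMap.range e) :=
    Submodule.finrank_mono fun v hv => ⟨v, eW v hv⟩
  rw [finrank_V56] at z4
  have z6 : S = LinearMap.ker e := Submodule.eq_of_le_of_finrank_le Se (by omega)
  have z7 : ∀ a v, ρ (u a) v - v ∈ S := fun a v => by simp [z6, eu]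
  let H : Subgroup X := Subgroup.closure {g | Inv ρ S g ∧ ∀ v, ρ g v - v ∈ S}
  have hH : ∀ g ∈ H, Inv ρ S g ∧ ∀ v, ρ g v - v ∈ S := fun g hg => by
    induction hg using Subgroup.closure_induction with
    | mem x hx => exact hx
    | one => exact ⟨fun v hv => by simpa using hv, fun v => by simp⟩
    | mul x y _ _ hx hy =>
      exact ⟨fun v hv => by rw [mm]; exact hx.1 _ (hy.1 v hv), fun v => by
        simpa [mm] using S.add_mem (hx.2 (ρ y v)) (hy.2 v)⟩
    | inv x _ hx =>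
      have : ∀ v, ρ x⁻¹ v - v ∈ S := fun v => by
        have := S.neg_mem (hx.2 (ρ x⁻¹ v))
        rwa [← mm, mul_inv_cancel, map_one, End.one_apply, neg_sub] at this
      exact ⟨fun v hv => by simpa using S.add_mem (this v) hv, this⟩
  have ti : t⁻¹ = t := inv_eq_of_mul_eq_one_right tt
  have := gen H (fun a => Subgroup.subset_closure ⟨uS a, z7 a⟩) fun a => Subgroup.subset_closure
    ⟨fun v hv => by rw [ti, mm, mm]; exact tS _ (uS _ _ (tS v hv)), fun v => by
      have := tS _ (z7 a (ρ t v))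
      rw [ti]
      rwa [map_sub, ttv, ← mm, ← mm] at this⟩
  refine hno.2 (cofix_of ρ (S := S) (fun e => ?_) fun g => (hH g (this ▸ trivial)).2)
  rw [← z6, e, finrank_top, finrank_V56] at z4
  omega

end L227

theorem l227 {F : Type*} [Field F] [Fintype F] (h : Fintype.card F = 27) :
    HasFix (ProjectiveSpecialLinearGroup (Fin 2) F) := fun ρ hρ => by
  let π : SpecialLinearGroup (Fin 2) F →* ProjectiveSpecialLinearGroup (Fin 2) F := QuotientGroup.mk' _
  have hz : ∀ (A : SpecialLinearGroup (Fin 2) F) (r : F), r ^ 2 = 1 → A.1 = !![r, 0; 0, r] → π A = 1 :=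
    fun A r hr hA => (QuotientGroup.eq_one_iff _).2 (Matrix.SpecialLinearGroup.mem_center_iff.2
      ⟨r, by simpa using hr, by
        change _ = A.1
        rw [hA]
        ext i j
        fin_cases i <;> fin_cases j <;> simp⟩)
  let D : Fˣ →* SpecialLinearGroup (Fin 2) F := MonoidHom.mk'
    (fun a => ⟨!![a, 0; 0, (a : F)⁻¹], by simp [det_fin_two]⟩) fun a b => Subtype.ext (by
      change _ = !![(a : F), 0; 0, (a : F)⁻¹] * !![(b : F), 0; 0, (b : F)⁻¹]
      simp [mul_comm])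
  have hD : ∀ a, (D a).1 = !![(a : F), 0; 0, (a : F)⁻¹] := fun _ => rfl
  let T : SpecialLinearGroup (Fin 2) F := ⟨!![0, -1; 1, 0], by simp [det_fin_two]⟩
  have hT : T.1 = !![0, -1; 1, 0] := rfl
  refine L227.core h hρ (u := fun a => π (GT.slUp a)) (d := fun a => π (D a)) (t := π T)
    (fun a b => by rw [GT.slUp_add, map_mul]) (fun a ha => ?_) (fun a b => ?_) (fun a => ?_) ?_
    (fun a => ?_) (fun a => ?_) fun H h1 h2 => ?_
  · obtain ⟨r, -, hr⟩ := Matrix.SpecialLinearGroup.mem_center_iff.1 ((QuotientGroup.eq_one_iff _).1 ha)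
    simpa using (congrFun (congrFun hr 0) 1).symm
  · rw [mul_inv_eq_iff_eq_mul, ← map_mul, ← map_mul]
    refine congrArg π (Subtype.ext ?_)
    simp [hD, pow_two, mul_assoc, mul_comm b]
  · have e := FiniteField.pow_card_sub_one_eq_one (a : F) a.ne_zero
    rw [h] at e
    rw [← map_pow, ← map_pow]
    refine hz _ (a ^ 13) (by rw [← pow_mul]; exact e) ?_
    rw [hD, Units.val_pow_eq_pow_val, inv_eq_of_mul_eq_one_right (b := (a : F) ^ 13)
      (by rw [← pow_add]; exact e)]
  · rw [← map_mul]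
    exact hz _ (-1) (by simp) (by simp [hT])
  · rw [← map_mul, ← map_mul]
    exact congrArg π (Subtype.ext (by simp [hD, hT]))
  · simp only [← map_mul]
    exact congrArg π (Subtype.ext (by simp [hD, hT]))
  · have := GT.eq_top_of_slUp_slLo_mem (H.comap π) h1 fun a => by
      have := h2 (-a)
      rwa [← map_inv, ← map_mul, ← map_mul, show T * GT.slUp (-a) * T⁻¹ = GT.slLo a from
        mul_inv_eq_iff_eq_mul.2 (Subtype.ext (by simp [hT]))] at this
    refine eq_top_iff.2 fun x _ => ?_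
    obtain ⟨y, rfl⟩ := QuotientGroup.mk'_surjective _ x
    exact (this.ge (Subgroup.mem_top y) :)

end Cfsg.Agent.E7V
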