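import Mathlib
import Cfsg.Agent.E7V.Defs
import Cfsg.Agent.E7V.Lin
import Cfsg.Agent.E7V.Mult
import Cfsg.Agent.E7V.Part
import Cfsg.Agent.E7V.Frob
import Cfsg.Agent.E7V.Cfg
import Cfsg.Prelude.Def_Classical

/-!
# `L₃(16)` has no representation of degree `56` with the table of `E₇(2)`
-/

set_option autoImplicit false

namespace Cfsg.Agent.E7V

open Module Matrix Cfsg.Lie

namespace L316

variable {F : Type*} [Field F]

/-- a diagonal matrix of determinant one -/
def dg (a b c : F) (h : a * b * c = 1) : SpecialLinearGroup (Fin 3) F :=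
  ⟨diagonal ![a, b, c], by simp [det_diagonal, Fin.prod_univ_three, h]⟩

/-- the cyclic permutation matrix -/
def cy : SpecialLinearGroup (Fin 3) F :=
  ⟨!![0, 0, 1; 1, 0, 0; 0, 1, 0], by simp [det_fin_three]⟩

/-- the projection on `PSL₃` -/
abbrev pr : SpecialLinearGroup (Fin 3) F →* ProjectiveSpecialLinearGroup (Fin 3) F :=
  QuotientGroup.mk' _

theorem dg_congr {a b c a' b' c' : F} (h : a * b * c = 1) (h' : a' * b' * c' = 1) (ha : a = a') (hb : b = b')
    (hc : c = c') : dg a b c h = dg a' b' c' h' := by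
  subst ha hb hc; rfl

theorem dg_mul {a b c a' b' c' : F} (h : a * b * c = 1) (h' : a' * b' * c' = 1) :
    dg a b c h * dg a' b' c' h' = dg (a * a') (b * b') (c * c') (by linear_combination a' * b' * c' * h + h') := by
  refine Subtype.ext ?_
  change diagonal _ * diagonal _ = diagonal _
  rw [diagonal_mul_diagonal]
  congr 1
  funext i
  fin_cases i <;> rfl

theorem dg_one : dg (1 : F) 1 1 (by simp) = 1 := by
  refine Subtype.ext ?_
  change diagonal _ = 1
  rw [← diagonal_one]
  congr 1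
  funext i
  fin_cases i <;> rfl

theorem dg_pow {a b c : F} (h : a * b * c = 1) (n : ℕ) :
    dg a b c h ^ n = dg (a ^ n) (b ^ n) (c ^ n) (by rw [← mul_pow, ← mul_pow, h, one_pow]) := by
  induction n with
  | zero => rw [pow_zero, ← dg_one]; exact dg_congr _ _ (by simp) (by simp) (by simp)
  | succ n ih => rw [pow_succ, ih, dg_mul]; exact dg_congr _ _ (by ring) (by ring) (by ring)

theorem dg_comm {a b c a' b' c' : F} (h : a * b * c = 1) (h' : a' * b' * c' = 1) :
    Commute (dg a b c h) (dg a' b' c' h') := by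
  rw [Commute, SemiconjBy, dg_mul, dg_mul]
  exact dg_congr _ _ (by ring) (by ring) (by ring)

theorem cy_dg {a b c : F} (h : a * b * c = 1) :
    cy * dg a b c h * cy⁻¹ = dg c a b (by linear_combination h) := by
  rw [mul_inv_eq_iff_eq_mul]
  refine Subtype.ext ?_
  rw [Matrix.SpecialLinearGroup.coe_mul, Matrix.SpecialLinearGroup.coe_mul]
  ext i j
  fin_cases i <;> fin_cases j <;> simp [cy, dg, Matrix.mul_apply, Fin.sum_univ_three]

theorem cy_pow : (cy : SpecialLinearGroup (Fin 3) F) ^ 3 = 1 := by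
  refine Subtype.ext ?_
  rw [pow_succ, pow_two, Matrix.SpecialLinearGroup.coe_mul, Matrix.SpecialLinearGroup.coe_mul]
  ext i j
  fin_cases i <;> fin_cases j <;> simp [cy, Matrix.mul_apply, Fin.sum_univ_three]

theorem pr_eq_one {A : SpecialLinearGroup (Fin 3) F} (h : pr A = 1) :
    A.1 0 0 = A.1 1 1 ∧ A.1 0 0 = A.1 2 2 ∧ A.1 1 0 = 0 := by
  rw [QuotientGroup.mk'_apply, QuotientGroup.eq_one_iff, Matrix.SpecialLinearGroup.mem_center_iff] at h
  obtain ⟨r, -, hr⟩ := h
  rw [← hr]
  simp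

theorem pr_dg_eq_one {a b c : F} {h : a * b * c = 1} (h1 : pr (dg a b c h) = 1) : a = b ∧ a = c := by
  have := pr_eq_one h1
  exact ⟨by simpa [dg] using this.1, by simpa [dg] using this.2.1⟩

theorem pr_scalar {a : F} (h : a * a * a = 1) : pr (dg a a a h) = 1 := by
  rw [QuotientGroup.mk'_apply, QuotientGroup.eq_one_iff, Matrix.SpecialLinearGroup.mem_center_iff]
  refine ⟨a, by simpa [pow_succ] using h, ?_⟩
  ext i j
  fin_cases i <;> fin_cases j <;> simp [dg]

theorem orderOf_cy : orderOf (pr (cy : SpecialLinearGroup (Fin 3) F)) = 3 := by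
  have : Fact (Nat.Prime 3) := ⟨by norm_num⟩
  refine orderOf_eq_prime (by rw [← map_pow, cy_pow, map_one]) fun h => ?_
  simpa [cy] using (pr_eq_one h).2.2

theorem orderOf_dg {a b c : F} (h : a * b * c = 1) (ha : a ^ 5 = 1) (hb : b ^ 5 = 1) (hc : c ^ 5 = 1)
    (hn : ¬ (a = b ∧ a = c)) : orderOf (pr (dg a b c h)) = 5 := by
  have : Fact (Nat.Prime 5) := ⟨by norm_num⟩
  refine orderOf_eq_prime ?_ fun h => hn (pr_dg_eq_one h)
  rw [← map_pow, dg_pow, dg_congr _ (by simp) ha hb hc, dg_one, map_one]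

theorem main (h2 : (2 : F) = 0) {z o : F} (hz : IsPrimitiveRoot z 5) (ho : o ^ 2 + o + 1 = 0) :
    NoEmb (ProjectiveSpecialLinearGroup (Fin 3) F) := fun ρ hρ => by
  have z5 : z ^ 5 = 1 := hz.pow_eq_one
  have o3 : o ^ 3 = 1 := by linear_combination (o - 1) * ho
  have zp : ∀ n : ℕ, (z ^ n) ^ 5 = 1 := fun n => by rw [← pow_mul, mul_comm, pow_mul, z5, one_pow]
  have hx : z * z ^ 4 * 1 = 1 := by linear_combination z5
  have hy : 1 * z * z ^ 4 = 1 := by linear_combination z5
  have hu : 1 * o * o ^ 2 = 1 := by linear_combination o3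
  have hzi : ∀ i j : ℕ, z ^ i = z ^ j → i % 5 = j % 5 := fun i j hij => by
    rw [← Nat.div_add_mod i 5, ← Nat.div_add_mod j 5, pow_add, pow_add, pow_mul, pow_mul, z5, one_pow, one_pow,
      one_mul, one_mul] at hij
    exact hz.pow_inj (Nat.mod_lt _ (by norm_num)) (Nat.mod_lt _ (by norm_num)) hij
  let g : SpecialLinearGroup (Fin 3) F := ⟨!![1, 1, 1; 1, o ^ 2, o; 1, o, o ^ 2], by
    simp only [det_fin_three, of_apply, cons_val', cons_val_zero, cons_val_one, cons_val_two, cons_val_fin_one,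
      head_cons, tail_cons, head_fin_const, Nat.succ_eq_add_one]
    linear_combination o * o3 + ho + (o - 2 * o ^ 2 - 1) * h2⟩
  refine cfg16 hρ (x := pr (dg _ _ _ hx)) (y := pr (dg _ _ _ hy)) (u := pr (dg _ _ _ hu)) (w := pr cy)
    (i := 0) (j := 1) (k := 4) (l := 4) ((dg_comm _ _).map _) ?_ ?_ orderOf_cy ?_ ?_ (by decide)
    ((dg_comm _ _).map _) ((dg_comm _ _).map _) ?_ ?_
  · refine orderOf_dg hx z5 (zp 4) (one_pow 5) fun h => ?_
    exact hz.ne_one (by norm_num) h.2
  · intro i hi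
    rw [← map_pow, ← map_mul, dg_pow, dg_mul]
    refine orderOf_dg _ (by rw [mul_one, zp]) (by rw [← pow_mul, ← pow_succ, zp]) (by rw [one_pow, one_mul, zp])
      fun h => ?_
    rw [mul_one, ← pow_mul, ← pow_succ, one_pow, one_mul] at h
    have h1 := hzi _ _ h.1
    have h2 := hzi _ _ h.2
    omega
  · rw [pow_zero, pow_one, one_mul (pr (dg _ _ _ hy)), ← map_inv, ← map_mul, ← map_mul, cy_dg]
  · rw [← map_inv, ← map_mul, ← map_mul, cy_dg, ← map_pow, ← map_pow, ← map_mul, dg_pow, dg_pow, dg_mul]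
    congr 1
    refine dg_congr _ _ (by ring) ?_ ?_
    · linear_combination (-(z ^ 15 + z ^ 10 + z ^ 5 + 1)) * z5
    · linear_combination (-z * (z ^ 10 + z ^ 5 + 1)) * z5
  · have hs : o * o * o = 1 := by linear_combination o3
    have : pr cy * pr (dg _ _ _ hu) * (pr cy)⁻¹ * pr (dg o o o hs) = pr (dg _ _ _ hu) := by
      rw [← map_inv, ← map_mul, ← map_mul, ← map_mul, cy_dg, dg_mul]
      congr 1
      exact dg_congr _ _ (by linear_combination o3) (by ring) (by ring)
    rw [pr_scalar, mul_one, mul_inv_eq_iff_eq_mul] at this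
    exact this.symm
  · refine (pr (F := F)).map_isConj (isConj_iff.2 ⟨g, ?_⟩)
    rw [mul_inv_eq_iff_eq_mul]
    refine Subtype.ext ?_
    rw [Matrix.SpecialLinearGroup.coe_mul, Matrix.SpecialLinearGroup.coe_mul]
    ext i j
    fin_cases i <;> fin_cases j <;> simp [g, cy, dg, Matrix.mul_apply, Fin.sum_univ_three] <;>
      first | ring1 | linear_combination o3 | linear_combination o * o3

end L316

variable {X : Type*} [Group X] {V : Type*} [AddCommGroup V] [Module (ZMod 2) V]

theorem l316 {F : Type*} [Field F] [Fintype F] (h : Fintype.card F = 16) :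
    NoEmb (ProjectiveSpecialLinearGroup (Fin 3) F) := by
  have h2 : (2 : F) = 0 := by
    have := FiniteField.cast_card_eq_zero F
    rw [h] at this
    have h4 : (2 : F) ^ 4 = 0 := by rw [← this]; norm_num
    exact pow_eq_zero_iff (by norm_num) |>.1 h4
  obtain ⟨e, he⟩ := IsCyclic.exists_ofOrder_eq_natCard (α := Fˣ)
  rw [Nat.card_units, Nat.card_eq_fintype_card, h] at he
  have hp : IsPrimitiveRoot (e : F) 15 := by
    rw [IsPrimitiveRoot.coe_units_iff]
    exact IsPrimitiveRoot.iff_orderOf.2 he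
  have ho : IsPrimitiveRoot ((e : F) ^ 5) 3 := hp.pow (by norm_num) (by norm_num)
  refine L316.main h2 (z := (e : F) ^ 3) (o := (e : F) ^ 5) (hp.pow (by norm_num) (by norm_num)) ?_
  have := ho.geom_sum_eq_zero (by norm_num)
  simp only [Finset.sum_range_succ, Finset.sum_range_zero] at this
  linear_combination this

end Cfsg.Agent.E7V
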