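import Mathlib
import Cfsg.Agent.E7V.Defs
import Cfsg.Agent.E7V.Lin
import Cfsg.Agent.Cl.GFSmall
import Cfsg.Agent.Cl.Transport
import Cfsg.Agent.Cl.Intertwine
import Cfsg.Prelude.Def_Classical

/-! `L₃(4)` is generated by elements `a`, `b` of orders two and five with product of order five. -/

set_option autoImplicit false

namespace Cfsg.Agent.E7V

open Module Matrix Cfsg.Lie

namespace L34

open Cfsg.Agent.Cl Subgroup

/-- The group `SL(3, 4)`. -/
abbrev S3 : Type := SpecialLinearGroup (Fin 3) GF4

/-- The matrix with a given code. -/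
def mat (m : ℕ) : Matrix (Fin 3) (Fin 3) GF4 := of fun i j => TF.ofCode gf4 (m >>> (2 * (3 * i.1 + j.1)))

/-- An involution. -/
def a : S3 := ⟨mat 65797, by rw [det_fin_three]; decide +kernel⟩
/-- An element of order five. -/
def b : S3 := ⟨mat 107558, by rw [det_fin_three]; decide +kernel⟩

/-- Each step is the product of two matrices found before; at the end all of `T` is found. -/
def ok (T : List ℕ) : List (ℕ × ℕ × ℕ) → List ℕ → Bool
  | [], K => T.all fun t => t ∈ K
  | (x, y, z) :: r, K => decide (x ∈ K) && decide (y ∈ K) && decide (mat x * mat y = mat z) && ok T r (z :: K)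

theorem ok_mem {H : Subgroup S3} {T : List ℕ} (l : List (ℕ × ℕ × ℕ)) :
    ∀ K : List ℕ, (∀ m ∈ K, ∃ g ∈ H, g.1 = mat m) → ok T l K = true → ∀ m ∈ T, ∃ g ∈ H, g.1 = mat m := by
  induction l with
  | nil => exact fun K hK h m hm => hK m (of_decide_eq_true (List.all_eq_true.1 h m hm))
  | cons s r ih =>
    obtain ⟨x, y, z⟩ := s
    intro K hK h
    simp only [ok, Bool.and_eq_true, decide_eq_true_eq] at h
    obtain ⟨⟨⟨hx, hy⟩, e⟩, h⟩ := h
    obtain ⟨g, hg, eg⟩ := hK x hx
    obtain ⟨k, hk, ek⟩ := hK y hy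
    refine ih _ (fun m hm => ?_) h
    rcases List.mem_cons.1 hm with rfl | hm
    · exact ⟨g * k, mul_mem hg hk, by rw [Matrix.SpecialLinearGroup.coe_mul, eg, ek, e]⟩
    · exact hK m hm

/-- The codes of the transvections. -/
def tg : List ℕ := [65797, 65801, 65809, 65825, 65857, 65921, 66817, 67841, 69889, 73985, 82177, 98561]

theorem cert : ok tg [(65797, 107558, 107574), (107574, 107558, 5790), (5790, 107558, 155729),
    (155729, 107558, 18876), (18876, 65797, 19388), (19388, 107558, 67845), (67845, 65797, 67841),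
    (67845, 67845, 65825), (65797, 155729, 155728), (155728, 67845, 57680), (57680, 5790, 73985),
    (65797, 73985, 73989), (73989, 65797, 106753), (106753, 73985, 98561), (65797, 5790, 5764), (5764, 98561, 5252),
    (5252, 155729, 69889), (5252, 155728, 65921), (5764, 5252, 19090), (19090, 107574, 66817), (65797, 69889, 69893),
    (69893, 65797, 86273), (86273, 69889, 82177), (5764, 82177, 6020), (6020, 155728, 65857), (5790, 65857, 5661),
    (5661, 57680, 65809), (107558, 65809, 238598), (238598, 19090, 65801)] [65797, 107558] = true := by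
  decide +kernel

theorem tv : ∀ (i j : Fin 3) (h : i ≠ j), ∀ c ∈ [TF.ofCode gf4 1, TF.ofCode gf4 2], ∃ m ∈ tg,
    (SpecialLinearGroup.transvection h c : S3).1 = mat m := by decide +kernel

theorem top : closure {a, b} = ⊤ := by
  refine sl_eq_top_of_addClosure _ {c | c ∈ [TF.ofCode gf4 1, TF.ofCode gf4 2]} ?_ fun i j h c hc => ?_
  · have h1 : TF.ofCode gf4 1 ∈ AddSubgroup.closure {c | c ∈ [TF.ofCode gf4 1, TF.ofCode gf4 2]} :=
      AddSubgroup.subset_closure List.mem_cons_self
    have h2 : TF.ofCode gf4 2 ∈ AddSubgroup.closure {c | c ∈ [TF.ofCode gf4 1, TF.ofCode gf4 2]} :=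
      AddSubgroup.subset_closure (List.mem_cons_of_mem _ List.mem_cons_self)
    refine eq_top_iff.2 fun c _ => ?_
    rcases (by decide +kernel : ∀ c : GF4, c = 0 ∨ c = TF.ofCode gf4 1 ∨ c = TF.ofCode gf4 2 ∨
      c = TF.ofCode gf4 1 + TF.ofCode gf4 2) c with rfl | rfl | rfl | rfl
    exacts [zero_mem _, h1, h2, add_mem h1 h2]
  · obtain ⟨m, hm, e⟩ := tv i j h c hc
    obtain ⟨g, hg, eg⟩ := ok_mem (H := closure {a, b}) _ _ (fun m hm => by
      rcases List.mem_cons.1 hm with rfl | hm
      · exact ⟨a, subset_closure (by simp), rfl⟩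
      · rw [List.mem_singleton.1 hm]; exact ⟨b, subset_closure (by simp), rfl⟩) cert m hm
    exact (Subtype.ext (eg.trans e.symm) : g = _) ▸ hg

theorem ord {g : S3} {c : GF4} (h : g.1 * g.1 * (g.1 * g.1) * g.1 = c • 1) (h1 : g.1 0 1 ≠ 0) :
    orderOf (QuotientGroup.mk' (center S3) g) = 5 := by
  haveI : Fact (Nat.Prime 5) := ⟨by norm_num⟩
  refine orderOf_eq_prime ?_ fun k => ?_
  · rw [← map_pow, QuotientGroup.mk'_apply, QuotientGroup.eq_one_iff,
      show g ^ 5 = g * g * (g * g) * g by simp only [pow_succ, pow_zero, one_mul, mul_assoc]]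
    refine mem_center_iff.2 fun k => Subtype.ext ?_
    simp only [Matrix.SpecialLinearGroup.coe_mul, h, Matrix.mul_smul, Matrix.smul_mul, mul_one, one_mul]
  · obtain ⟨r, -, e⟩ := Matrix.SpecialLinearGroup.mem_center_iff.1 ((QuotientGroup.eq_one_iff g).1 k)
    exact h1 (by rw [← e]; simp)

theorem main : HasFix (ProjectiveSpecialLinearGroup (Fin 3) GF4) := by
  refine f255 (a := QuotientGroup.mk' (center S3) a) (b := QuotientGroup.mk' (center S3) b) ?_ ?_
    (ord (c := 1) (by decide +kernel) (by decide +kernel)) ?_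
  · rw [← Set.image_pair, ← MonoidHom.map_closure, top]
    exact map_top_of_surjective _ (QuotientGroup.mk'_surjective _)
  · rw [← map_pow, pow_two, show a * a = 1 from Subtype.ext (by decide +kernel), map_one]
  · rw [← map_mul, show a * b = ⟨mat 107574, by rw [det_fin_three]; decide +kernel⟩ from
      Subtype.ext (by decide +kernel)]
    exact ord (c := TF.ofCode gf4 3) (by decide +kernel) (by decide +kernel)

end L34

variable {X : Type*} [Group X] {V : Type*} [AddCommGroup V] [Module (ZMod 2) V]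

theorem l34 {F : Type*} [Field F] [Fintype F] (h : Fintype.card F = 4) :
    HasFix (ProjectiveSpecialLinearGroup (Fin 3) F) :=
  let ⟨e⟩ := Cl.nonempty_ringEquiv_GF4 F h
  L34.main.congr (Cl.pslMapEquiv (Fin 3) e.symm)

end Cfsg.Agent.E7V
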