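import Mathlib
import Cfsg.Agent.E7V.Defs
import Cfsg.Agent.E7V.Lin
import Cfsg.Agent.E7V.Mult
import Cfsg.Agent.E7V.Part
import Cfsg.Agent.E7V.Frob
import Cfsg.Agent.E7V.Cfg
import Cfsg.Agent.Cl.LinearBasic
import Cfsg.Prelude.Def_Classical

set_option autoImplicit false

namespace Cfsg.Agent.E7V

open Module Matrix Cfsg.Lie

variable {X : Type*} [Group X] {V : Type*} [AddCommGroup V] [Module (ZMod 2) V]

namespace L43

abbrev S3 : Type := SpecialLinearGroup (Fin 3) (ZMod 3)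
abbrev S4 : Type := SpecialLinearGroup (Fin 4) (ZMod 3)
abbrev E3 : Type := Fin 3 → ZMod 3

/-- an element of order `13` -/
def x13 : S3 := ⟨!![0, 0, 1; 1, 0, 1; 0, 1, 0], by decide⟩

theorem x13_pow : x13 ^ 13 = 1 := Subtype.ext (by decide +kernel)

theorem x13_not : x13 ∉ Subgroup.center S3 := fun h => by
  have := congrArg Subtype.val (Subgroup.mem_center_iff.1 h
    (⟨!![1, 1, 0; 0, 1, 0; 0, 0, 1], by decide⟩ : S3))
  revert this
  decide +kernel

theorem exists_row (c : E3) (hc : c ≠ 0) : ∃ M : S3, Pi.single 0 1 ᵥ* M.1 = c := by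
  have key : ∀ a b c : ZMod 3, ¬(a = 0 ∧ b = 0 ∧ c = 0) → ∃ d e f g h i : ZMod 3,
      a * e * i - a * f * h - b * d * i + b * f * g + c * d * h - c * e * g = 1 := by decide +kernel
  obtain ⟨d, e, f, g, h, i, hd⟩ := key (c 0) (c 1) (c 2) fun h => hc <| by
    ext j
    fin_cases j
    exacts [h.1, h.2.1, h.2.2]
  refine ⟨⟨!![c 0, c 1, c 2; d, e, f; g, h, i], by rw [det_fin_three]; simpa using hd⟩, ?_⟩
  rw [single_one_vecMul]
  ext j
  fin_cases j <;> rfl

theorem sum_eq {m : E3 → ℕ} {k : ℕ} (hm : ∀ c, c ≠ 0 → m c = k) {T : Finset E3} (h0 : 0 ∈ T) :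
    ∑ c ∈ T, m c = m 0 + (T.card - 1) * k := by
  rw [← Finset.add_sum_erase T m h0, Finset.sum_congr rfl fun c hc => hm c (Finset.ne_of_mem_erase hc),
    Finset.sum_const, Finset.card_erase_of_mem h0, smul_eq_mul]

theorem key (ρ : X →* End (ZMod 2) V56) (φ : Multiplicative E3 →* X) (l : S3 →* X)
    (h1 : ∀ M : S3, ∃ u : X, ∀ e, u * φ (.ofAdd e) * u⁻¹ = φ (.ofAdd (M.1 *ᵥ e)))
    (h2 : ∀ A e, ∃ e', (l A)⁻¹ * φ e * l A = φ e')
    (h3 : fx ρ {φ (.ofAdd (Pi.single 0 1))} ∈ [2, 14, 20, 32]) :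
    fx ρ (Set.range φ) = 4 ∧ ∀ A, Fx ρ (Set.range φ) ≤ Fx ρ {l A} := by
  obtain ⟨m, hs, hf, -, hu⟩ := mult ρ (k := 3) (n := 3) (by decide) φ
  have hm : ∀ c, c ≠ 0 → m c = m (Pi.single 0 1) := fun c hc => by
    obtain ⟨M, rfl⟩ := exists_row c hc
    obtain ⟨u, hu'⟩ := h1 M
    exact hu u M.1 (M⁻¹).1 (congrArg Subtype.val (mul_inv_cancel M)) hu' _
  have e1 := hf {Pi.single 0 1}
  have e2 := hf Finset.univ
  rw [finrank_V56, sum_eq hm (Finset.mem_univ _)] at hs
  rw [sum_eq hm (by simp)] at e1 e2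
  have c0 : (Finset.univ : Finset E3).card = 27 := by simp
  have c1 : (Finset.univ.filter fun c : E3 => ∀ e ∈ ({Pi.single 0 1} : Finset E3), c ⬝ᵥ e = 0).card = 9 := by
    decide +kernel
  have c2 : (Finset.univ.filter fun c : E3 => ∀ e ∈ (Finset.univ : Finset E3), c ⬝ᵥ e = 0).card = 1 := by
    decide +kernel
  rw [c0] at hs
  rw [c1, Finset.coe_singleton, Set.image_singleton] at e1
  rw [c2, Finset.coe_univ, Set.image_univ] at e2
  have e3 : fx ρ (Set.range φ) = 4 := by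
    have : Set.range φ = Set.range fun e : E3 => φ (.ofAdd e) := rfl
    rw [this, e2]
    rw [e1] at h3
    simp only [List.mem_cons, List.not_mem_nil, or_false] at h3
    omega
  refine ⟨e3, ?_⟩
  have hinv : ∀ A, Inv ρ (Fx ρ (Set.range φ)) (l A) := fun A => inv_Fx ρ (by
    rintro _ ⟨e, rfl⟩
    obtain ⟨e', he⟩ := h2 A e
    exact Subgroup.subset_closure ⟨e', he.symm⟩)
  let K : Subgroup S3 :=
    { carrier := {A | ∀ v ∈ Fx ρ (Set.range φ), ρ (l A) v = v}
      mul_mem' := fun {a b} ha hb v hv => by rw [map_mul, map_mul, End.mul_apply, hb v hv, ha v hv]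
      one_mem' := fun v _ => by simp
      inv_mem' := fun {a} ha v hv => by
        conv_lhs => rw [← ha v hv]
        rw [← End.mul_apply, ← map_mul, ← map_mul, inv_mul_cancel, map_one, map_one, End.one_apply] }
  haveI : K.Normal := ⟨fun a ha g v hv => by
    rw [map_mul, map_mul, map_mul, map_mul, End.mul_apply, End.mul_apply, ha _ (hinv _ v hv),
      ← End.mul_apply, ← map_mul, ← map_mul, mul_inv_cancel, map_one, map_one, End.one_apply]⟩
  have hx : x13 ∈ K := fun v hv => mem_Fx_one.1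
    (triv13 ρ (by rw [← map_pow, x13_pow, map_one]) (hinv x13) (by
      have : finrank (ZMod 2) (Fx ρ (Set.range φ)) = 4 := e3
      omega) hv)
  rcases Cl.sl_normal_le_center_or_eq_top (Or.inl (by simp)) K with h | h
  · exact absurd (h hx) x13_not
  · exact fun A v hv => mem_Fx_one.2 ((h ▸ Subgroup.mem_top A : A ∈ K) v hv)

abbrev M3 : Type := Matrix (Fin 3) (Fin 3) (ZMod 3)
abbrev M4 : Type := Matrix (Fin 4) (Fin 4) (ZMod 3)

/-- column matrices -/
def cM (e : E3) : M4 := !![1, 0, 0, e 0; 0, 1, 0, e 1; 0, 0, 1, e 2; 0, 0, 0, 1]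
/-- row matrices -/
def rM (e : E3) : M4 := !![1, e 0, e 1, e 2; 0, 1, 0, 0; 0, 0, 1, 0; 0, 0, 0, 1]
/-- upper block -/
def aM (A : M3) : M4 :=
  !![A 0 0, A 0 1, A 0 2, 0; A 1 0, A 1 1, A 1 2, 0; A 2 0, A 2 1, A 2 2, 0; 0, 0, 0, 1]
/-- lower block -/
def bM (A : M3) : M4 :=
  !![1, 0, 0, 0; 0, A 0 0, A 0 1, A 0 2; 0, A 1 0, A 1 1, A 1 2; 0, A 2 0, A 2 1, A 2 2]

theorem det_cM (e : E3) : (cM e).det = 1 := by simp [cM, det_succ_row_zero, Fin.sum_univ_succ]

theorem det_rM (e : E3) : (rM e).det = 1 := by simp [rM, det_succ_row_zero, Fin.sum_univ_succ]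

theorem det_aM (A : M3) : (aM A).det = A.det := by
  rw [det_fin_three]
  simp [aM, det_succ_row_zero, Fin.sum_univ_succ, Fin.succAbove]
  ring

theorem det_bM (A : M3) : (bM A).det = A.det := by
  rw [det_fin_three]
  simp [bM, det_succ_row_zero, Fin.sum_univ_succ, Fin.succAbove]
  ring

theorem cM_add (a b : E3) : cM (a + b) = cM a * cM b := by
  ext i j
  fin_cases i <;> fin_cases j <;> simp [cM, mul_apply, Fin.sum_univ_succ, add_comm]

theorem rM_add (a b : E3) : rM (a + b) = rM a * rM b := by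
  ext i j
  fin_cases i <;> fin_cases j <;> simp [rM, mul_apply, Fin.sum_univ_succ, add_comm]

theorem aM_mul (a b : M3) : aM (a * b) = aM a * aM b := by
  ext i j
  fin_cases i <;> fin_cases j <;> simp [aM, mul_apply, Fin.sum_univ_succ]

theorem bM_mul (a b : M3) : bM (a * b) = bM a * bM b := by
  ext i j
  fin_cases i <;> fin_cases j <;> simp [bM, mul_apply, Fin.sum_univ_succ]

theorem aM_cM (A : M3) (e : E3) : aM A * cM e = cM (A *ᵥ e) * aM A := by
  ext i j
  fin_cases i <;> fin_cases j <;> simp [aM, cM, mul_apply, Fin.sum_univ_succ, mulVec, dotProduct]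

theorem rM_bM (A : M3) (e : E3) : rM e * bM A = bM A * rM (Aᵀ *ᵥ e) := by
  ext i j
  fin_cases i <;> fin_cases j <;>
    simp [bM, rM, mul_apply, Fin.sum_univ_succ, mulVec, dotProduct] <;> ring

theorem cM_eq (e : E3) : cM e = bM !![1, 0, e 1; 0, 1, e 2; 0, 0, 1] * rM ![0, 0, e 0] := by
  ext i j
  fin_cases i <;> fin_cases j <;> simp [bM, rM, cM, mul_apply, Fin.sum_univ_succ]

/-- the radical of the stabiliser of a plane -/
def colq : Multiplicative E3 →* S4 :=
  MonoidHom.mk' (fun e => ⟨cM e.toAdd, det_cM _⟩) fun _ _ => Subtype.ext (cM_add _ _)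

/-- the radical of the stabiliser of a point -/
def rowq : Multiplicative E3 →* S4 :=
  MonoidHom.mk' (fun e => ⟨rM e.toAdd, det_rM _⟩) fun _ _ => Subtype.ext (rM_add _ _)

/-- the upper Levi factor -/
def levA : S3 →* S4 :=
  MonoidHom.mk' (fun A => ⟨aM A.1, (det_aM _).trans A.2⟩) fun _ _ => Subtype.ext (aM_mul _ _)

/-- the lower Levi factor -/
def levB : S3 →* S4 :=
  MonoidHom.mk' (fun A => ⟨bM A.1, (det_bM _).trans A.2⟩) fun _ _ => Subtype.ext (bM_mul _ _)

theorem eq_of {a b c d : S4} (h : a.1 * b.1 = c.1 * d.1) : a * b = c * d := Subtype.ext h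

theorem colq_coe (e : E3) : (colq (.ofAdd e)).1 = cM e := rfl
theorem rowq_coe (e : E3) : (rowq (.ofAdd e)).1 = rM e := rfl
theorem levA_coe (A : S3) : (levA A).1 = aM A.1 := rfl
theorem levB_coe (A : S3) : (levB A).1 = bM A.1 := rfl

theorem levA_colq (A : S3) (e : E3) :
    levA A * colq (.ofAdd e) * (levA A)⁻¹ = colq (.ofAdd (A.1 *ᵥ e)) := by
  rw [mul_inv_eq_iff_eq_mul]
  apply eq_of
  rw [colq_coe, colq_coe, levA_coe, aM_cM]

theorem rowq_levB (A : S3) (e : E3) : (levB A)⁻¹ * rowq (.ofAdd e) * levB A = rowq (.ofAdd (A.1ᵀ *ᵥ e)) := by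
  rw [mul_assoc, inv_mul_eq_iff_eq_mul]
  apply eq_of
  rw [rowq_coe, rowq_coe, levB_coe, rM_bM]

theorem colq_eq (e : Multiplicative E3) : ∃ A e', colq e = levB A * rowq e' :=
  ⟨⟨!![1, 0, e.toAdd 1; 0, 1, e.toAdd 2; 0, 0, 1], by simp [det_fin_three]⟩, .ofAdd ![0, 0, e.toAdd 0],
    Subtype.ext (cM_eq _)⟩

theorem genM : ∀ (i j : Fin 4) (c : ZMod 3), i ≠ j → ∃ a b : Fin 3, a ≠ b ∧
    (transvection i j c = aM (transvection a b c) ∨ transvection i j c = bM (transvection a b c) ∨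
      transvection i j c = rM ![0, 0, c] ∨
      transvection i j c * (aM (transvection 1 0 1) * bM (transvection 2 0 c)) =
        bM (transvection 2 0 c) * aM (transvection 1 0 1)) := by
  decide +kernel

theorem gen {K : Subgroup S4} (hA : ∀ A, levA A ∈ K) (hB : ∀ A, levB A ∈ K) (hq : ∀ e, rowq e ∈ K) :
    K = ⊤ := by
  refine Cl.sl_eq_top_of_transvection_mem K fun i j h c => ?_
  obtain ⟨a, b, hab, h1 | h1 | h1 | h1⟩ := genM i j c h
  · exact (show SpecialLinearGroup.transvection h c = levA (SpecialLinearGroup.transvection hab c) from Subtype.ext h1) ▸ hA _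
  · exact (show SpecialLinearGroup.transvection h c = levB (SpecialLinearGroup.transvection hab c) from Subtype.ext h1) ▸ hB _
  · exact (show SpecialLinearGroup.transvection h c = rowq (.ofAdd ![0, 0, c]) from Subtype.ext h1) ▸ hq _
  · have h10 : (1 : Fin 3) ≠ 0 := by decide
    have h20 : (2 : Fin 3) ≠ 0 := by decide
    have h2 : SpecialLinearGroup.transvection h c * (levA (SpecialLinearGroup.transvection h10 1) *
        levB (SpecialLinearGroup.transvection h20 c)) = levB (SpecialLinearGroup.transvection h20 c) *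
        levA (SpecialLinearGroup.transvection h10 1) := Subtype.ext h1
    rw [eq_mul_inv_of_mul_eq h2]
    exact K.mul_mem (K.mul_mem (hB _) (hA _)) (K.inv_mem (K.mul_mem (hA _) (hB _)))

theorem ord3 {g : S4} (h3 : g ^ 3 = 1) (hg : g ∉ Subgroup.center S4) :
    orderOf (QuotientGroup.mk' (Subgroup.center S4) g) = 3 :=
  orderOf_eq_prime (by rw [← map_pow, h3, map_one]) fun h => hg ((QuotientGroup.eq_one_iff g).1 h)

theorem ordc : orderOf (QuotientGroup.mk' (Subgroup.center S4) (colq (.ofAdd (Pi.single 0 1)))) = 3 := by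
  refine ord3 (by rw [← map_pow]; exact (congrArg _ (by decide)).trans (map_one _)) fun h => ?_
  have := congrArg Subtype.val (Subgroup.mem_center_iff.1 h
    (levA (SpecialLinearGroup.transvection (show (1 : Fin 3) ≠ 0 by decide) 1)))
  revert this
  show aM (transvection 1 0 1) * cM (Pi.single 0 1) ≠ cM (Pi.single 0 1) * aM (transvection 1 0 1)
  decide +kernel

theorem ordr : orderOf (QuotientGroup.mk' (Subgroup.center S4) (rowq (.ofAdd (Pi.single 0 1)))) = 3 := by
  refine ord3 (by rw [← map_pow]; exact (congrArg _ (by decide)).trans (map_one _)) fun h => ?_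
  have := congrArg Subtype.val (Subgroup.mem_center_iff.1 h
    (levA (SpecialLinearGroup.transvection (show (1 : Fin 3) ≠ 0 by decide) 1)))
  revert this
  show aM (transvection 1 0 1) * rM (Pi.single 0 1) ≠ rM (Pi.single 0 1) * aM (transvection 1 0 1)
  decide +kernel

theorem main (ρ : S4 →* End (ZMod 2) V56) (hc : fx ρ {colq (.ofAdd (Pi.single 0 1))} ∈ [2, 14, 20, 32])
    (hr : fx ρ {rowq (.ofAdd (Pi.single 0 1))} ∈ [2, 14, 20, 32]) : Fix ρ := by
  obtain ⟨c4, cA⟩ := key ρ colq levA (fun M => ⟨levA M, levA_colq M⟩) (fun A e =>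
    ⟨_, by simpa using levA_colq A⁻¹ e.toAdd⟩) hc
  obtain ⟨r4, rB⟩ := key ρ rowq levB (fun M => ⟨(levB M.transpose)⁻¹, fun e => by
    rw [inv_inv, rowq_levB]; rfl⟩) (fun A e => ⟨_, rowq_levB A e.toAdd⟩) hr
  have hle : Fx ρ (Set.range rowq) ≤ Fx ρ (Set.range colq) := by
    rintro v hv _ ⟨e, rfl⟩
    obtain ⟨A, e', he⟩ := colq_eq e
    rw [he, map_mul, End.mul_apply, hv _ ⟨e', rfl⟩, mem_Fx_one.1 (rB A hv)]
  have heq : Fx ρ (Set.range rowq) = Fx ρ (Set.range colq) :=
    Submodule.eq_of_le_of_finrank_eq hle (r4.trans c4.symm)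
  have hne : Fx ρ (Set.range rowq) ≠ ⊥ := fun h => by
    rw [fx, h, finrank_bot] at r4
    omega
  obtain ⟨v, hv, h0⟩ := (Submodule.ne_bot_iff _).1 hne
  let K : Subgroup S4 :=
    { carrier := {g | ρ g v = v}
      mul_mem' := fun {a b} ha hb => by
        rw [Set.mem_setOf_eq] at *
        rw [map_mul, End.mul_apply, hb, ha]
      one_mem' := by simp
      inv_mem' := fun {a} ha => by
        rw [Set.mem_setOf_eq] at *
        conv_lhs => rw [← ha]
        rw [← End.mul_apply, ← map_mul, inv_mul_cancel, map_one, End.one_apply] }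
  have hK : K = ⊤ := gen (fun A => mem_Fx_one.1 (cA A (heq ▸ hv))) (fun A => mem_Fx_one.1 (rB A hv))
    fun e => hv _ ⟨e, rfl⟩
  exact ⟨v, h0, fun g => (hK ▸ Subgroup.mem_top g : g ∈ K)⟩

end L43

theorem l43 : HasFix (ProjectiveSpecialLinearGroup (Fin 4) (ZMod 3)) := fun ρ h => by
  obtain ⟨v, h0, hv⟩ := L43.main (ρ.comp (QuotientGroup.mk' (Subgroup.center L43.S4)))
    (by rw [fx_comp, Set.image_singleton]; exact h.t3 _ L43.ordc)
    (by rw [fx_comp, Set.image_singleton]; exact h.t3 _ L43.ordr)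
  refine .inl ⟨v, h0, fun g => ?_⟩
  obtain ⟨g, rfl⟩ := QuotientGroup.mk'_surjective (Subgroup.center L43.S4) g
  exact hv g

end Cfsg.Agent.E7V
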