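import Mathlib
import Cfsg.Agent.E7V.Defs
import Cfsg.Agent.E7V.Lin
import Cfsg.Agent.E7V.Mult
import Cfsg.Agent.E7V.Part
import Cfsg.Agent.E7V.Frob
import Cfsg.Agent.E7V.Cfg
import Cfsg.Prelude.Def_Classical
import Cfsg.Agent.E7V.O73a
import Cfsg.Agent.E7V.O73b

/-!
# `Ω₇(3)` has no representation of degree `56` with the table

The unipotent radical `3⁵` of the stabiliser of a singular vector: its nontrivial characters fall into
orbits of lengths `90, 80, 72 > 56` under the Levi factor.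
-/

set_option autoImplicit false

namespace Cfsg.Agent.E7V

open Module Matrix Cfsg.Lie

variable {X : Type*} [Group X] {V : Type*} [AddCommGroup V] [Module (ZMod 2) V]

namespace O73

/-- generators of the Levi factor -/
def U : Fin 4 → Mx := ![!![1,0,0,0,0,1,0; 0,1,0,0,0,0,0; 1,0,1,0,0,2,0; 0,0,0,1,0,0,0; 0,0,0,0,1,0,0; 0,0,0,0,0,1,0; 0,0,0,0,0,0,1],
  !![1,0,1,0,0,0,0; 0,1,0,0,0,0,0; 0,0,1,0,0,0,0; 0,0,0,1,0,0,0; 0,0,0,0,1,0,0; 1,0,2,0,0,1,0; 0,0,0,0,0,0,1],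
  !![1,0,0,0,0,0,0; 0,1,0,0,0,0,0; 0,0,1,2,0,0,0; 0,0,0,1,0,0,0; 0,0,0,0,1,0,0; 0,0,0,0,0,1,0; 0,0,0,0,0,1,1],
  !![1,0,0,0,0,0,0; 0,1,0,0,0,0,0; 0,0,1,0,0,0,0; 0,0,1,1,0,0,0; 0,0,0,0,1,0,0; 0,0,0,0,0,1,2; 0,0,0,0,0,0,1]]

theorem U_good : ∀ k, U k * U k * U k = 1 ∧ (U k)ᵀ * Gm * U k = Gm ∧ D2 * U k = U k * U k * D2 := by
  decide +kernel

theorem U_act : ∀ k i, U k * T (Pi.single i 1) = T (Ms k *ᵥ Pi.single i 1) * U k := by decide +kernel

theorem Ms_inv : ∀ k, Ms k * (Ms k * Ms k) = 1 := by decide +kernel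

end O73

open O73 in
theorem o73 : NoEmb (Cfsg.Omega (ZMod 3) (Cfsg.quadFormOdd 3 (ZMod 3))) := by
  intro ρ hρ
  choose x hx using exT
  let φ : Multiplicative (Fin 5 → ZMod 3) →* Om := MonoidHom.mk' (fun a => x a.toAdd) fun a b =>
    val_inj (by simp only [map_mul, hx, toAdd_mul, T_add])
  have hφ : ∀ e, val (φ (.ofAdd e)) = T e := fun e => hx e
  obtain ⟨m, h1, h2, -, h4⟩ := mult ρ (k := 5) (n := 3) (by decide) φ
  rw [finrank_V56] at h1
  have hm : ∀ k c, m (c ᵥ* Ms k) = m c := fun k => by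
    obtain ⟨a, b, c⟩ := U_good k
    obtain ⟨u, hu⟩ := ex (D := D2) a b (by decide +kernel) (by decide +kernel) c
    refine h4 u _ _ (Ms_inv k) (conj_phi φ fun i => ?_)
    rw [mul_inv_eq_iff_eq_mul]
    exact val_inj (by rw [map_mul, map_mul, hφ, hφ, hu, U_act])
  have hv := vanish m h1.symm hm
  have ho : orderOf (φ (.ofAdd (Pi.single 0 1))) = 3 := by
    refine orderOf_eq_prime ?_ fun h => ?_
    · rw [← map_pow, ← ofAdd_nsmul, show (3 • Pi.single 0 1 : Fin 5 → ZMod 3) = 0 by decide, ofAdd_zero,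
        map_one]
    · have := hφ (Pi.single 0 1)
      rw [h, map_one] at this
      revert this
      decide +kernel
  have h3 := hρ.t3 _ ho
  have h5 := h2 {Pi.single 0 1}
  rw [Finset.coe_singleton, Set.image_singleton] at h5
  have h6 : ∑ c ∈ Finset.univ.filter (fun c : Fin 5 → ZMod 3 =>
      ∀ e ∈ ({Pi.single 0 1} : Finset (Fin 5 → ZMod 3)), c ⬝ᵥ e = 0), m c = ∑ c, m c := by
    refine Finset.sum_subset (Finset.subset_univ _) fun c _ hc => hv c ?_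
    rintro rfl
    exact hc (by simp)
  rw [h5, h6, ← h1] at h3
  revert h3
  decide

end Cfsg.Agent.E7V
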