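import Mathlib
import Cfsg.Agent.E7V.Defs
import Cfsg.Agent.E7V.Lin
import Cfsg.Agent.E7V.Mult
import Cfsg.Agent.E7V.Part
import Cfsg.Agent.E7V.Frob
import Cfsg.Agent.E7V.Cfg
import Cfsg.Prelude.Def_Classical
import Cfsg.Prelude.Def_Sz
import Cfsg.Agent.S2457
import Cfsg.Agent.Chev.SzSubgroups

set_option autoImplicit false

namespace Cfsg.Agent.E7V

open Module Matrix Cfsg.Lie

variable {X : Type*} [Group X] {V : Type*} [AddCommGroup V] [Module (ZMod 2) V]

open Cfsg.Agent.Chev.Sz in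
theorem Sz8.gen {F : Type*} [Field F] [SzF F 1] {a b : Cfsg.Sz F 1} (h1 : a ≠ 1) (ha : a ^ 2 = 1)
    (hb : orderOf b = 5) (hab : orderOf (a * b) = 5) : Subgroup.closure {a, b} = ⊤ := by
  have cF : Nat.card F = 8 := SzF.card_eq (m := 1)
  have hG : Nat.card (Cfsg.Sz F 1) = 29120 := by rw [card_Sz, cF]; rfl
  have : Finite (Cfsg.Sz F 1) := Nat.finite_of_card_ne_zero (by omega)
  have ma : a ∈ Subgroup.closure ({a, b} : Set (Cfsg.Sz F 1)) := Subgroup.subset_closure (by simp)
  have mb : b ∈ Subgroup.closure ({a, b} : Set (Cfsg.Sz F 1)) := Subgroup.subset_closure (by simp)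
  rcases subgroup_cases (Subgroup.closure {a, b}) with ⟨U, hU, hle⟩ | ⟨F₀, k, hk, x, hd, h⟩
  · exfalso
    have d5 : 5 ∣ Nat.card (Subgroup.normalizer (U : Set (Cfsg.Sz F 1))) :=
      hb ▸ Subgroup.orderOf_dvd_natCard _ (hle mb)
    rcases isPart_iff.1 hU with ⟨P, rfl⟩ | hT
    · rw [normalizer_sylAt, card_stabilizer, cF] at d5
      norm_num at d5
    · have d4 := hT.card_normalizer_dvd
      have c5 : Nat.card U = 5 := by
        have e := hT.card_eq
        have := d5.trans d4
        rw [cF] at e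
        omega
      have key : ∀ g ∈ Subgroup.normalizer (U : Set (Cfsg.Sz F 1)), orderOf g = 5 → g ∈ U := by
        intro g hg o
        let N := Subgroup.normalizer (U : Set (Cfsg.Sz F 1))
        have cU : Nat.card (U.subgroupOf N) = 5 := by
          rw [← c5]
          exact Nat.card_congr (Subgroup.subgroupOfEquivOfLe Subgroup.le_normalizer).toEquiv
        have ix : (U.subgroupOf N).index ∣ 4 := by
          have e := (U.subgroupOf N).card_mul_index
          rw [cU] at e
          rw [c5, mul_comm] at d4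
          exact Nat.dvd_of_mul_dvd_mul_left (by norm_num : 0 < 5) (e ▸ d4)
        obtain ⟨c, hc⟩ := ix
        have m4 : (⟨g, hg⟩ : N) ^ 4 ∈ U.subgroupOf N := by
          have := Subgroup.pow_mem _ (Subgroup.pow_index_mem (U.subgroupOf N) ⟨g, hg⟩) c
          rwa [← pow_mul, ← hc] at this
        have m4' : g ^ 4 ∈ U := m4
        have e : g = (g ^ 4)⁻¹ := by
          rw [eq_inv_iff_mul_eq_one, ← pow_succ']
          have := pow_orderOf_eq_one g
          rwa [o] at this
        rw [e]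
        exact U.inv_mem m4'
      have hb' := key b (hle mb) hb
      have hab' := key (a * b) (hle (Subgroup.mul_mem _ ma mb)) hab
      have ha' : a ∈ U := by simpa using U.mul_mem hab' (U.inv_mem hb')
      have o5 : orderOf a ∣ 5 := c5 ▸ Subgroup.orderOf_dvd_natCard _ ha'
      have o2 : orderOf a ∣ 2 := orderOf_dvd_of_pow_eq_one ha
      exact h1 (orderOf_eq_one_iff.1 (Nat.eq_one_of_dvd_one (by simpa using Nat.dvd_gcd o5 o2)))
  · have h1 := Nat.le_of_dvd (by omega) hd
    have h2 := one_le_m F₀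
    have h3 : k = 1 := by omega
    subst h3
    apply Subgroup.eq_top_of_card_eq
    rw [← Subgroup.card_map_of_injective (f := (MulAut.conj x).toMonoidHom) (MulAut.conj x).injective,
      h, card_range_subMap, card_Sz, card_F F₀, card_F F]

open Cfsg.Agent.Chev.Sz in
theorem sz8 {F : Type*} [Field F] [Fintype F] (h : Fintype.card F = 8) : HasFix (Cfsg.Lie.Sz F 4) := by
  have := SzF.of_card (m := 1) le_rfl h
  have cF : Nat.card F = 8 := SzF.card_eq (m := 1)
  have hG : Nat.card (Cfsg.Lie.Sz F 4) = 29120 := by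
    refine (Nat.card_congr (szEquiv F 1).toEquiv).symm.trans ?_
    rw [card_Sz, cF]; rfl
  have : Finite (Cfsg.Lie.Sz F 4) := Nat.finite_of_card_ne_zero (by omega)
  have := Fact.mk Nat.prime_two
  have := Fact.mk Nat.prime_five
  obtain ⟨x, hx⟩ := exists_prime_orderOf_dvd_card' (G := Cfsg.Lie.Sz F 4) 5 (by rw [hG]; norm_num)
  obtain ⟨a, ha⟩ := exists_prime_orderOf_dvd_card' (G := Cfsg.Lie.Sz F 4) 2 (by rw [hG]; norm_num)
  have a1 : a ≠ 1 := fun e => by rw [e, orderOf_one] at ha; omega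
  obtain ⟨u, v, e⟩ := S2457.result 1 le_rfl h x (by omega) a a1
  have oc : ∀ w : Cfsg.Lie.Sz F 4, orderOf (w * x * w⁻¹) = 5 := fun w => by
    rw [← hx]
    exact (MulAut.conj w).orderOf_eq x
  have hb : orderOf (v * x * v⁻¹)⁻¹ = 5 := by rw [orderOf_inv, oc]
  have hab : orderOf (a * (v * x * v⁻¹)⁻¹) = 5 := by
    rw [← oc u]
    congr 1
    exact mul_inv_eq_of_eq_mul e
  have a2 : a ^ 2 = 1 := by rw [← ha, pow_orderOf_eq_one]
  let f : Cfsg.Lie.Sz F 4 ≃* Cfsg.Sz F 1 := (szEquiv F 1).symm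
  have a2' : f a ^ 2 = 1 := by rw [← map_pow, a2, map_one]
  have hb' : orderOf (f (v * x * v⁻¹)⁻¹) = 5 := by rw [MulEquiv.orderOf_eq, hb]
  have hab' : orderOf (f a * f (v * x * v⁻¹)⁻¹) = 5 := by rw [← map_mul, MulEquiv.orderOf_eq, hab]
  exact (f255 (Sz8.gen (fun e => a1 (f.injective (by rw [e, map_one]))) a2' hb' hab') a2' hb' hab').congr f.symm

end Cfsg.Agent.E7V
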