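import Mathlib
import Cfsg.Agent.E7V.Defs
import Cfsg.Agent.E7V.Lin
import Cfsg.Agent.E7V.Mult
import Cfsg.Agent.E7V.Part
import Cfsg.Agent.E7V.Frob
import Cfsg.Agent.E7V.Cfg
import Cfsg.Prelude.Def_Classical
import Cfsg.Agent.Cl.Transport
import Cfsg.Agent.Cl.GFSmall
import Cfsg.Agent.Cl.UOrder
import Cfsg.Agent.Cl.UMatrix

/-!
# `U₃(4)` has no representation with the table of `E₇(2)`
-/

set_option autoImplicit false

namespace Cfsg.Agent.E7V

open Module Matrix Cfsg.Lie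

variable {X : Type*} [Group X] {V : Type*} [AddCommGroup V] [Module (ZMod 2) V]

namespace U34

open Cfsg.Agent.Cl

/-- the matrix with the given codes -/
def mat (l : Fin 3 → Fin 3 → ℕ) : Matrix (Fin 3) (Fin 3) GF16 := Matrix.of fun i j => TF.ofCode gf16 (l i j)

/-- the check that a matrix is special unitary -/
def ok (M : Matrix (Fin 3) (Fin 3) GF16) : Prop :=
  M 0 0 * M 1 1 * M 2 2 - M 0 0 * M 1 2 * M 2 1 - M 0 1 * M 1 0 * M 2 2 + M 0 1 * M 1 2 * M 2 0 +
    M 0 2 * M 1 0 * M 2 1 - M 0 2 * M 1 1 * M 2 0 = 1 ∧ Mᵀ * M.map (fun t => t * t * (t * t)) = 1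

instance (M : Matrix (Fin 3) (Fin 3) GF16) : Decidable (ok M) := by unfold ok; infer_instance

theorem uf : UField (uConj (F := GF16) (q := 4) card_GF16) 4 := uField_uConj _

/-- the element of the special unitary group -/
def el (M : Matrix (Fin 3) (Fin 3) GF16) (h : ok M) : Cfsg.SU 3 GF16 4 :=
  ⟨⟨M, by rw [det_fin_three]; exact h.1⟩, (uf.mem_SU_iff _).2 (by
    have e : ⇑(uConj (F := GF16) (q := 4) card_GF16) = fun t => t * t * (t * t) := by
      funext t; rw [uf.pow]; ring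
    rw [e]; exact h.2)⟩

theorem ext' {g h : Cfsg.SU 3 GF16 4} (e : g.1.1 = h.1.1) : g = h := Subtype.ext (Subtype.ext e)

theorem ne' {g h : Cfsg.SU 3 GF16 4} (e : g.1.1 ≠ h.1.1) : g ≠ h := fun t => e (t ▸ rfl)

/-- `diag(ζ, ζ, ζ³)` -/
def x : Cfsg.SU 3 GF16 4 := el (mat ![![8, 0, 0], ![0, 8, 0], ![0, 0, 10]]) (by decide +kernel)
/-- `diag(ζ, ζ⁻¹, 1)` -/
def y : Cfsg.SU 3 GF16 4 := el (mat ![![8, 0, 0], ![0, 15, 0], ![0, 0, 1]]) (by decide +kernel)
/-- the cyclic permutation -/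
def u : Cfsg.SU 3 GF16 4 := el (mat ![![0, 0, 1], ![1, 0, 0], ![0, 1, 0]]) (by decide +kernel)
/-- an involution -/
def a : Cfsg.SU 3 GF16 4 := el (mat ![![6, 3, 0], ![2, 6, 0], ![0, 0, 1]]) (by decide +kernel)
/-- an element of order three -/
def b : Cfsg.SU 3 GF16 4 := el (mat ![![5, 2, 0], ![3, 4, 0], ![0, 0, 1]]) (by decide +kernel)
/-- a transposition -/
def s : Cfsg.SU 3 GF16 4 := el (mat ![![0, 1, 0], ![1, 0, 0], ![0, 0, 1]]) (by decide +kernel)
/-- the conjugating element -/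
def c : Cfsg.SU 3 GF16 4 := el (mat ![![1, 12, 10], ![3, 11, 10], ![2, 7, 10]]) (by decide +kernel)

theorem ord5 {g : Cfsg.SU 3 GF16 4} (h : g * g * (g * g) * g = 1) (h1 : g ≠ 1) : orderOf g = 5 := by
  haveI : Fact (Nat.Prime 5) := ⟨by norm_num⟩
  refine orderOf_eq_prime ?_ h1
  rw [← h]; simp only [pow_succ, pow_zero, one_mul, mul_assoc]

theorem ord3 {g : Cfsg.SU 3 GF16 4} (h : g * g * g = 1) (h1 : g ≠ 1) : orderOf g = 3 := by
  refine orderOf_eq_prime ?_ h1
  rw [← h]; simp only [pow_succ, pow_zero, one_mul, mul_assoc]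

theorem hc : Commute x y := ext' (by decide +kernel)

theorem hx : orderOf x = 5 := ord5 (ext' (by decide +kernel)) (ne' (by decide +kernel))

theorem hy0 : orderOf y = 5 := ord5 (ext' (by decide +kernel)) (ne' (by decide +kernel))

theorem hy : ∀ i < 5, orderOf (x ^ i * y) = 5 := by
  intro i hi
  haveI : Fact (Nat.Prime 5) := ⟨by norm_num⟩
  refine orderOf_eq_prime ?_ ?_
  · rw [(hc.pow_left i).mul_pow, ← pow_mul, mul_comm i 5, pow_mul, ← hx, pow_orderOf_eq_one, one_pow,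
      one_mul, hx, ← hy0, pow_orderOf_eq_one]
  · interval_cases i <;> simp only [pow_succ, pow_zero, one_mul] <;> exact ne' (by decide +kernel)

theorem hu : orderOf u = 3 := ord3 (ext' (by decide +kernel)) (ne' (by decide +kernel))

theorem hb : orderOf b = 3 := ord3 (ext' (by decide +kernel)) (ne' (by decide +kernel))

theorem hux : u * x * u⁻¹ = x ^ 2 * y ^ 1 := by
  rw [mul_inv_eq_iff_eq_mul, pow_two, pow_one]; exact ext' (by decide +kernel)

theorem huy : u * y * u⁻¹ = x ^ 3 * y ^ 2 := by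
  rw [mul_inv_eq_iff_eq_mul, pow_three, pow_two]; exact ext' (by decide +kernel)

theorem ha : a ^ 2 = 1 := by rw [pow_two]; exact ext' (by decide +kernel)

theorem hab : a * b = y := ext' (by decide +kernel)

theorem xb : Commute x b := ext' (by decide +kernel)

theorem hs : s = b * y * (y * b) * (y * b) := ext' (by decide +kernel)

theorem hus : u = s * (u * s * u⁻¹) := by
  rw [← mul_assoc, eq_mul_inv_iff_mul_eq]; exact ext' (by decide +kernel)

theorem hcb : IsConj b u :=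
  isConj_iff.2 ⟨c, by rw [mul_inv_eq_iff_eq_mul]; exact ext' (by decide +kernel)⟩

theorem hg : u ∈ Subgroup.closure {x, y, b, u * b * u⁻¹, u⁻¹ * b * u} := by
  set H := Subgroup.closure ({x, y, b, u * b * u⁻¹, u⁻¹ * b * u} : Set (Cfsg.SU 3 GF16 4))
  have m1 : x ∈ H := Subgroup.subset_closure (by simp)
  have m2 : y ∈ H := Subgroup.subset_closure (by simp)
  have m3 : b ∈ H := Subgroup.subset_closure (by simp)
  have m4 : u * b * u⁻¹ ∈ H := Subgroup.subset_closure (by simp)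
  have m5 : u * y * u⁻¹ ∈ H := by rw [huy]; exact H.mul_mem (H.pow_mem m1 3) (H.pow_mem m2 2)
  have m6 : s ∈ H := by
    rw [hs]; exact H.mul_mem (H.mul_mem (H.mul_mem m3 m2) (H.mul_mem m2 m3)) (H.mul_mem m2 m3)
  have m7 : u * s * u⁻¹ ∈ H := by
    have := H.mul_mem (H.mul_mem (H.mul_mem m4 m5) (H.mul_mem m5 m4)) (H.mul_mem m5 m4)
    rw [hs]
    convert this using 1
    group
  have := H.mul_mem m6 m7
  rwa [← hus] at this

theorem noEmb : NoEmb (Cfsg.SU 3 GF16 4) := fun ρ hρ => by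
  have hd : (((2 : ℕ) : ZMod 5) - 1) * ((2 : ℕ) - 1) ≠ (1 : ℕ) * (3 : ℕ) := by decide
  have h1 := cfg5 hρ hc hx hy hu hux huy hd ha hb hab xb hg
  have h2 := (fpf3 hρ hc hx hy hu hux huy hd).1
  have h3 := fx_isConj ρ hcb
  omega

theorem center_bot : Subgroup.center (Cfsg.SU 3 GF16 4) = ⊥ := by
  rw [← Subgroup.card_eq_one, uf.card_center_SU (n := 3) (by norm_num)]
  norm_num

end U34

theorem u34 {F : Type*} [Field F] [Fintype F] (h : Fintype.card F = 16) : NoEmb (Cfsg.PSU 3 F 4) := by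
  obtain ⟨σ⟩ := Cl.nonempty_ringEquiv_GF16 F h
  let e := (Cl.psuMapEquiv 3 4 σ).trans (Cl.centerQuotEquivOfEqBot U34.center_bot)
  exact U34.noEmb.of_inj (f := e.symm.toMonoidHom) e.symm.injective

end Cfsg.Agent.E7V
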