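import Mathlib
import Cfsg.Agent.E7V.Defs
import Cfsg.Agent.E7V.Lin
import Cfsg.Agent.E7V.Mult
import Cfsg.Agent.E7V.Part
import Cfsg.Agent.E7V.Frob
import Cfsg.Agent.E83.Mat
import Cfsg.Agent.Cl.Transport
import Cfsg.Prelude.Def_Classical

/-! # `U₄(3)` has no representation with the table -/

set_option autoImplicit false

namespace Cfsg.Agent.E7V

open Module Matrix Cfsg.Lie

variable {X : Type*} [Group X] {V : Type*} [AddCommGroup V] [Module (ZMod 2) V]

namespace U43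

open Cfsg.Agent.E83 Cfsg.Agent.Cl

/-- product of codes -/
noncomputable abbrev mu : ℕ → ℕ → ℕ := pmu gf9 4 [2, 4, 8]

/-- the identity -/
abbrev e1 : ℕ := 0x2000000000200000000020000000002

/-- the generators of `Q`, then `γ, u, s, y` -/
def gens : List ℕ := [0x60a0000060e00000000040000000004, 0x200020c00020a04040602000e020002,
  0x2000a040002100e06100200020c0002, 0x606020c0e0a0a04020c06060a040e0a,
  0x604060a101002100c0800040a040200, 0x20006020002020a0a04020004060002,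
  0x60e0c080a0c06080a0c000c1004, 0x60c06040e0608060402000e0a06040e]

/-- the code of a word -/
noncomputable def wd (L : List ℕ) : ℕ := List.rec e1 (fun a _ ih => mu (gens.getD a e1) ih) L

/-- the word of an element of `Q` -/
def cw (e : Fin 4 → ZMod 3) : List ℕ := List.replicate (e 0).val 0 ++ (List.replicate (e 1).val 1 ++
  (List.replicate (e 2).val 2 ++ List.replicate (e 3).val 3))

/-- action of `u` -/
def Mu : Matrix (Fin 4) (Fin 4) (ZMod 3) := !![1, 1, 1, 2; 0, 1, 0, 1; 0, 0, 1, 0; 0, 0, 0, 1]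

/-- action of `s` -/
def Ms : Matrix (Fin 4) (Fin 4) (ZMod 3) := !![1, 1, 2, 0; 2, 0, 1, 2; 1, 0, 1, 1; 1, 1, 2, 2]

/-- action of `y` -/
def My : Matrix (Fin 4) (Fin 4) (ZMod 3) := !![1, 1, 1, 2; 1, 1, 0, 0; 1, 0, 0, 0; 2, 0, 2, 0]

/-- number of a character -/
def idx (c : Fin 4 → ZMod 3) : ℕ := (c 0).val + 3 * (c 1).val + 9 * (c 2).val + 27 * (c 3).val

/-- orbit of a character -/
def cl (c : Fin 4 → ZMod 3) : ℕ := (0x1a5e6edaf97ef59aff9799abd777eedabfe9bbbe8 >>> (2 * idx c)) % 4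

/-- distance to the representative -/
def dep (c : Fin 4 → ZMod 3) : ℕ :=
  (0x463525344255363244443141411522434335355534425522532230531344441545442330331420650 >>> (4 * idx c)) % 16

/-- orbit representatives -/
def rep (k : ℕ) : Fin 4 → ZMod 3 := [0, ![0, 0, 0, 1], ![0, 0, 1, 0]].getD k ![0, 1, 0, 0]

theorem cert : ∀ c, c = rep (cl c) ∨
    ∃ c' ∈ [c ᵥ* Mu, c ᵥ* Ms, 2 • c], dep c' < dep c ∧ cl c' = cl c := by decide +kernel

theorem sum_cl {m : (Fin 4 → ZMod 3) → ℕ} (h1 : ∀ c, m (c ᵥ* Mu) = m c) (h2 : ∀ c, m (c ᵥ* Ms) = m c)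
    (h3 : ∀ c, m (2 • c) = m c) (s : Finset (Fin 4 → ZMod 3)) {a b c d : ℕ}
    (h : (List.range 4).map (fun k => (s.filter (cl · = k)).card) = [a, b, c, d]) :
    ∑ c ∈ s, m c = a * m (rep 0) + b * m (rep 1) + c * m (rep 2) + d * m (rep 3) := by
  have key : ∀ n c, dep c = n → m c = m (rep (cl c)) := fun n => by
    induction n using Nat.strong_induction_on with
    | _ n ih =>
      intro c hc
      rcases cert c with e | ⟨c', e, h4, h5⟩
      · exact congrArg m e
      · rw [← h5, ← ih _ (hc ▸ h4) c' rfl]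
        simp only [List.mem_cons, List.not_mem_nil, or_false] at e
        rcases e with rfl | rfl | rfl
        exacts [(h1 c).symm, (h2 c).symm, (h3 c).symm]
  have k2 : ∀ k, ∑ c ∈ s with cl c = k, m c = (s.filter (cl · = k)).card • m (rep k) := fun k =>
    (Finset.sum_congr rfl fun c hc => (key _ c rfl).trans
      (congrArg (fun k => m (rep k)) (Finset.mem_filter.1 hc).2)).trans (Finset.sum_const _)
  rw [← Finset.sum_fiberwise_of_maps_to (t := Finset.range 4) (g := cl)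
    fun c _ => Finset.mem_range.2 (Nat.mod_lt _ (by omega)), Finset.sum_congr rfl fun k _ => k2 k]
  simp only [List.range_succ, List.range_zero, List.nil_append, List.cons_append, List.map_cons,
    List.map_nil, List.cons.injEq, and_true] at h
  simp only [Finset.sum_range_succ, Finset.sum_range_zero, smul_eq_mul, h, zero_add]

variable (M : Mdl mu okU e1 X)

/-- the elements -/
def x (i : ℕ) : X := M.gx (gens.getD i e1)

theorem ok_x (i : ℕ) : M.Ok (gens.getD i e1) :=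
  Mdl.ok_getD (fun a ha => M.ok_ok ((by decide +kernel : ∀ a ∈ gens, okU a = true) a ha)) i

theorem wd_spec (L : List ℕ) : M.Ok (wd L) ∧ M.gx (wd L) = (L.map (x M)).prod := by
  induction L with
  | nil => exact ⟨M.ok_e, M.gx_e⟩
  | cons a L ih => exact ⟨M.ok_mu (ok_x M a) ih.1, (M.gx_mu (ok_x M a) ih.1).trans (by rw [ih.2]; rfl)⟩

theorem rel {L L' : List ℕ} (h : wd L = wd L') : (L.map (x M)).prod = (L'.map (x M)).prod := by
  rw [← (wd_spec M L).2, h, (wd_spec M L').2]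

theorem ne_one {i : ℕ} (h : mu (gens.getD i e1) (gens.getD 6 e1) ≠ mu (gens.getD 6 e1) (gens.getD i e1)) :
    x M i ≠ 1 := fun e => h (M.comm (ok_x M i) (ok_x M 6) e)

include M in
theorem false_of {ρ : X →* End (ZMod 2) V56} (h : Tab ρ) : False := by
  have : Finite (End (ZMod 2) V56) := Finite.of_injective _ DFunLike.coe_injective
  have : Finite X := Finite.of_injective _ h.inj
  have c3 : ∀ i : Fin 4, x M i ^ 3 = 1 := fun i => by
    simpa [pow_succ, mul_assoc] using rel M ((by decide +kernel : ∀ i : Fin 4, wd [i, i, i] = wd []) i)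
  obtain ⟨φ, hφ⟩ := exists_phi (k := 4) (n := 3) (fun i => x M i) (fun i j => by
    simpa [commute_iff_eq] using
      rel M ((by decide +kernel : ∀ i j : Fin 4, wd [i, j] = wd [j, i]) i j)) c3
  have hw : ∀ e, φ (.ofAdd e) = ((cw e).map (x M)).prod := fun e => by
    simp [hφ, cw, List.ofFn_succ]
  have cj : ∀ (k : ℕ) (N : Matrix (Fin 4) (Fin 4) (ZMod 3)),
      (∀ i : Fin 4, wd (k :: cw (Pi.single i 1)) = wd (cw (N *ᵥ Pi.single i 1) ++ [k])) →
      ∀ e, x M k * φ (.ofAdd e) * (x M k)⁻¹ = φ (.ofAdd (N *ᵥ e)) := fun k N hN =>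
    conj_phi φ fun i => by simpa [hw, mul_inv_eq_iff_eq_mul] using rel M (hN i)
  have cu := cj 5 Mu (by decide +kernel)
  have cs := cj 6 Ms (by decide +kernel)
  have cy := cj 7 My (by decide +kernel)
  obtain ⟨m, m0, m1, m2, m3⟩ := mult ρ (k := 4) (n := 3) (by decide) φ
  have sm := @sum_cl m
    (m3 _ Mu !![1, 2, 2, 2; 0, 1, 0, 2; 0, 0, 1, 0; 0, 0, 0, 1] (by decide +kernel) cu)
    (m3 _ Ms !![2, 1, 2, 1; 2, 1, 0, 2; 0, 2, 2, 0; 1, 0, 0, 2] (by decide +kernel) cs) m2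
  have p : ∀ i : Fin 4, φ (.ofAdd (Pi.single i 1)) = x M i := fun i => by
    rw [hw, (by decide +kernel : ∀ i : Fin 4, cw (Pi.single i 1) = [i.val]) i]
    simp
  have s0 := m0.trans (sm _ (a := 1) (b := 20) (c := 30) (d := 30) (by decide +kernel))
  have s1 := (m1 {Pi.single 0 1}).trans (sm _ (a := 1) (b := 2) (c := 12) (d := 12) (by decide +kernel))
  have s2 := (m1 {Pi.single 1 1}).trans (sm _ (a := 1) (b := 8) (c := 12) (d := 6) (by decide +kernel))
  have s3 := (m1 {Pi.single 2 1}).trans (sm _ (a := 1) (b := 8) (c := 6) (d := 12) (by decide +kernel))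
  have s4 := (m1 {Pi.single 0 1, Pi.single 1 1}).trans
    (sm _ (a := 1) (b := 2) (c := 6) (d := 0) (by decide +kernel))
  have s5 := (m1 Finset.univ).trans (sm _ (a := 1) (b := 0) (c := 0) (d := 0) (by decide +kernel))
  have hA : (fun e => φ (.ofAdd e)) '' (Finset.univ : Finset (Fin 4 → ZMod 3)) = φ.range := by
    ext g
    exact ⟨fun ⟨e, _, he⟩ => ⟨_, he⟩, fun ⟨e, he⟩ => ⟨e.toAdd, by simp, he⟩⟩
  rw [hA] at s5
  simp only [Finset.coe_singleton, Finset.coe_insert, Set.image_singleton, Set.image_pair, p] at s1 s2 s3 s4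
  have t1 := h.t3 _ (orderOf_eq_prime (c3 0) (ne_one M (by decide +kernel)))
  have t2 := h.t3 _ (orderOf_eq_prime (c3 1) (ne_one M (by decide +kernel)))
  have t3 := h.t3 _ (orderOf_eq_prime (c3 2) (ne_one M (by decide +kernel)))
  have y5 : x M 7 ^ 5 = 1 := by
    simpa [pow_succ, mul_assoc] using rel M (by decide +kernel : wd [7, 7, 7, 7, 7] = wd [])
  have t4 := h.t5 _ (@orderOf_eq_prime _ _ _ _ ⟨Nat.prime_five⟩ y5 (ne_one M (by decide +kernel)))
  simp only [List.mem_cons, List.not_mem_nil, or_false] at t1 t2 t3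
  rw [finrank_V56] at s0
  have e1 : Fx ρ {x M (0 : Fin 4), x M (1 : Fin 4)} = Fx ρ {x M (0 : Fin 4)} :=
    Submodule.eq_of_le_of_finrank_eq (Fx_anti ρ (by simp)) (by
      change fx ρ _ = fx ρ _
      omega)
  have mm : ∀ a b v, ρ (a * b) v = ρ a (ρ b v) := fun a b v => by rw [map_mul, End.mul_apply]
  have r1 : x M 4 * x M 0 = x M 0 * x M 4 := by simpa using rel M (by decide +kernel : wd [4, 0] = wd [0, 4])
  have r2 : x M 4 * x M 1 = x M 5 * x M 4 := by simpa using rel M (by decide +kernel : wd [4, 1] = wd [5, 4])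
  have r3 : x M 7 * x M 6 = x M 5 * (x M 6 * x M 5) := by
    simpa using rel M (by decide +kernel : wd [7, 6] = wd [5, 6, 5])
  have iv : ∀ a v, ρ a (ρ a⁻¹ v) = v := fun a v => by rw [← mm, mul_inv_cancel, map_one, End.one_apply]
  have f1 : ∀ v ∈ Fx ρ φ.range, ρ (x M 5) v = v := fun v hv => by
    have h1 : ρ (x M 0) v = v := hv _ ⟨_, p 0⟩
    have h2 : ρ (x M 4)⁻¹ v ∈ Fx ρ {x M (0 : Fin 4)} := mem_Fx_one.2 (by
      change ρ (x M 0) _ = _
      rw [← mm, show x M 0 * (x M 4)⁻¹ = (x M 4)⁻¹ * x M 0 by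
        rw [mul_inv_eq_iff_eq_mul, mul_assoc, ← r1, inv_mul_cancel_left], mm, h1])
    have h3 : ρ (x M 1) (ρ (x M 4)⁻¹ v) = ρ (x M 4)⁻¹ v := e1.ge h2 _ (by simp)
    rw [← iv (x M 4) v, ← mm, ← r2, mm, h3]
  have f2 : ∀ v ∈ Fx ρ φ.range, ρ (x M 7) v = v := fun v hv => by
    have h1 : ρ (x M 6)⁻¹ v ∈ Fx ρ φ.range := inv_Fx ρ (by
      rintro _ ⟨e, rfl⟩
      rw [inv_inv]
      exact Subgroup.subset_closure ⟨_, (cs e.toAdd).symm⟩) v hv
    conv_lhs => rw [← iv (x M 6) v, ← mm, r3, mm, mm, f1 _ h1, iv, f1 v hv]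
  have fr := frob ρ (A := φ.range) (q := 5) (u := x M 7) (W := ⊤)
    (Odd.of_dvd_nat (show Odd (Nat.card (Multiplicative (Fin 4 → ZMod 3))) by
      rw [Nat.card_congr Multiplicative.toAdd, Nat.card_fun, Nat.card_zmod, Nat.card_eq_fintype_card,
        Fintype.card_fin]
      decide) (Subgroup.card_range_dvd φ))
    (by rintro _ ⟨a, rfl⟩ _ ⟨b, rfl⟩; rw [← map_mul, ← map_mul, mul_comm])
    Nat.prime_five (by omega) y5 (by rintro _ ⟨a, rfl⟩; exact ⟨_, (cy a.toAdd).symm⟩)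
    (by
      rintro _ ⟨a, rfl⟩ ha
      have h1 : ∀ e, φ (.ofAdd e) = φ a → φ (.ofAdd (My *ᵥ e)) = φ a := fun e he => by rw [← cy, he, ha]
      have h2 := h1 a.toAdd rfl
      have h3 := h1 _ h2
      have h4 := h1 _ h3
      have h5 : ∀ e : Fin 4 → ZMod 3, e = My *ᵥ e + My *ᵥ (My *ᵥ e) + My *ᵥ (My *ᵥ (My *ᵥ e)) +
        My *ᵥ (My *ᵥ (My *ᵥ (My *ᵥ e))) + e + e := by decide +kernel
      have h6 := congrArg (fun e => φ (.ofAdd e)) (h5 a.toAdd)
      simp only [ofAdd_add, map_mul, h1 _ h4, h2, h3, h4, ofAdd_toAdd] at h6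
      have h7 : φ a ^ 3 = 1 := by
        rw [← map_pow, show a ^ 3 = 1 from Multiplicative.toAdd.injective (funext fun i => by
          simpa using (by decide : ∀ b : ZMod 3, 3 * b = 0) _), map_one]
      rw [h6]
      calc _ = φ a ^ 3 * φ a ^ 3 := by simp only [pow_succ, pow_zero, one_mul, mul_assoc]
        _ = 1 := by rw [h7, one_mul])
    (fun a _ => inv_top ρ a) (inv_top ρ _)
  have e2 : fx ρ (insert (x M 7) φ.range) = fx ρ φ.range := by
    rw [fx, Fx_insert, inf_eq_right.2 fun v hv => mem_Fx_one.2 (f2 v hv)]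
    rfl
  rw [fw_top, fw_top, fw_top, finrank_top, finrank_V56, e2] at fr
  omega

end U43

theorem u43 {F : Type*} [Field F] [Fintype F] (h : Fintype.card F = 9) : NoEmb (Cfsg.PSU 4 F 3) := by
  obtain ⟨σ⟩ := Cl.TF.nonempty_ringEquiv (D := Cl.gf9) F h
  let e := (Cl.psuMapEquiv 4 3 σ).symm
  exact fun ρ hρ => (E83.mdlU e.toMonoidHom e.injective).elim fun M => U43.false_of M hρ

end Cfsg.Agent.E7V
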